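import Cfsg.Agent.H76.LocalTwinsMain
import Cfsg.Agent.Components.TTStructure
import Cfsg.Agent.Components.Fitting

/-!
Lines of commuting members in a class of 3-transpositions of a group without solvable normal
subgroups, and the residue of a member whose commuting set generates a solvable group.
-/

set_option autoImplicit false
set_option linter.unusedSectionVars false

namespace Cfsg.Agent.H80.TTQuad

open Cfsg
open H76.LocallyS3 (nb cj cj_cj cj_injective commute_cj_iff)

universe u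

variable {G : Type u} [Group G]

/-- A generating class of 3-transpositions, no solvable normal subgroups. -/
structure Cls (D : Set G) : Prop where
  cl : Cfsg.IsThreeTranspositionClass D
  sol : ∀ N : Subgroup G, N.Normal → Group.IsSolvable ↥N → N = ⊥

/-- The members commuting with both `p` and `q`. -/
def B (D : Set G) (p q : G) : Set G := {d : G | d ∈ D ∧ Commute d p ∧ Commute d q}

/-- Membership of the line through `p` and `q`. -/
def OnLine (D : Set G) (p q r : G) : Prop := r ∈ D ∧ ∀ d ∈ B D p q, Commute r d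

variable {D : Set G}

theorem cj_one (x : G) : cj (1 : G) x = x := by simp [cj]

theorem cj_inv_cj (g x : G) : cj g⁻¹ (cj g x) = x := by rw [cj_cj, inv_mul_cancel, cj_one]

theorem cj_cj_inv (g x : G) : cj g (cj g⁻¹ x) = x := by rw [cj_cj, mul_inv_cancel, cj_one]

theorem cj_eq_of_commute {g x : G} (h : Commute g x) : cj g x = x := by
  rw [cj, h.eq, mul_inv_cancel_right]

theorem commute_of_cj_eq {g x : G} (h : cj g x = x) : Commute g x := mul_inv_eq_iff_eq_mul.1 h

theorem nb_symm {p q : G} (hp : p ∈ D) (hq : q ∈ nb D p) : p ∈ nb D q :=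
  ⟨hp, hq.2.1.symm, hq.2.2.symm⟩

theorem B_comm (p q : G) : B D p q = B D q p :=
  Set.ext fun _ => ⟨fun h => ⟨h.1, h.2.2, h.2.1⟩, fun h => ⟨h.1, h.2.2, h.2.1⟩⟩

namespace Cls

variable (H : Cls D)
include H

theorem mem_cj (g : G) {d : G} (hd : d ∈ D) : cj g d ∈ D := H44.tt_invariant H.cl g hd

theorem sq {d : G} (hd : d ∈ D) : d * d = 1 := H44.tt_mul_self H.cl.1 hd

theorem inv' {d : G} (hd : d ∈ D) : d⁻¹ = d := H44.tt_inv H.cl.1 hd

theorem cj_invol {d : G} (hd : d ∈ D) (x : G) : cj d (cj d x) = x := by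
  rw [cj_cj, H.sq hd, cj_one]

theorem cube {a b : G} (ha : a ∈ D) (hb : b ∈ D) (h : ¬ Commute a b) : (a * b) ^ 3 = 1 :=
  H44.tt_cube H.cl.1 ha hb h

theorem braid {a b : G} (ha : a ∈ D) (hb : b ∈ D) (h : ¬ Commute a b) : cj a b = cj b a := by
  simp only [cj, H.inv' ha, H.inv' hb]
  exact H44.tt_braid H.cl.1 ha hb h

theorem not_commute_cj {a b : G} (ha : a ∈ D) (hb : b ∈ D) (h : ¬ Commute a b) :
    ¬ Commute b (cj a b) ∧ ¬ Commute a (cj a b) := by
  constructor
  · intro hc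
    refine h (commute_cj_iff (g := b) |>.1 ?_)
    rw [cj_eq_of_commute (Commute.refl b), ← H.braid ha hb h]
    exact hc.symm
  · intro hc
    refine h (commute_cj_iff (g := a) |>.1 ?_)
    rwa [cj_eq_of_commute (Commute.refl a)]

theorem cj_nb {x y : G} (g : G) (hy : y ∈ nb D x) : cj g y ∈ nb D (cj g x) :=
  ⟨H.mem_cj g hy.1, fun e => hy.2.1 (cj_injective g e), commute_cj_iff.2 hy.2.2⟩

theorem cj_mem_nb {x y g : G} (hg : Commute g x) (hy : y ∈ nb D x) : cj g y ∈ nb D x := by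
  have h := H.cj_nb g hy
  rwa [cj_eq_of_commute hg] at h

theorem cj_B (g p q : G) {d : G} (hd : d ∈ B D p q) : cj g d ∈ B D (cj g p) (cj g q) :=
  ⟨H.mem_cj g hd.1, commute_cj_iff.2 hd.2.1, commute_cj_iff.2 hd.2.2⟩

theorem mem_B_cj (g p q : G) {d : G} : cj g d ∈ B D (cj g p) (cj g q) ↔ d ∈ B D p q := by
  refine ⟨fun h => ?_, H.cj_B g p q⟩
  have h' := H.cj_B g⁻¹ _ _ h
  rwa [cj_inv_cj, cj_inv_cj, cj_inv_cj] at h'

theorem nonempty : ∃ x, x ∈ D := by
  obtain ⟨d, hd, -⟩ := H.cl.2.1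
  exact ⟨d, hd⟩

theorem exists_cj {a b : G} (ha : a ∈ D) (hb : b ∈ D) : ∃ g : G, cj g a = b :=
  H44.tt_class_conj H.cl ha hb

theorem center_eq_bot : Subgroup.center G = ⊥ := by
  refine H.sol _ inferInstance ?_
  open scoped IsMulCommutative in infer_instance

theorem eq_one_of_fix {g : G} (h : ∀ d ∈ D, cj g d = d) : g = 1 := by
  have hg : g ∈ Subgroup.center G := by
    rw [Subgroup.mem_center_iff]
    intro k
    have hle : Subgroup.closure D ≤ Subgroup.centralizer ({g} : Set G) :=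
      (Subgroup.closure_le _).2 fun d hd =>
        Subgroup.mem_centralizer_singleton_iff.2 (commute_of_cj_eq (h d hd)).eq.symm
    exact Subgroup.mem_centralizer_singleton_iff.1 (hle (H.cl.2.2 ▸ Subgroup.mem_top k))
  rwa [H.center_eq_bot, Subgroup.mem_bot] at hg

variable [Finite G]

theorem eq_of_commute_subset {u v : G} (hu : u ∈ D) (hv : v ∈ D)
    (h : ∀ w ∈ D, Commute u w → Commute v w) : u = v :=
  H44.tt_eq_of_commute_subset H.cl H.sol hu hv h

theorem exists_noncommute {x : G} (hx : x ∈ D) : ∃ f ∈ D, ¬ Commute x f := by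
  by_contra h
  push Not at h
  have hc : x ∈ Subgroup.center G := by
    rw [Subgroup.mem_center_iff]
    intro k
    have hle : Subgroup.closure D ≤ Subgroup.centralizer ({x} : Set G) :=
      (Subgroup.closure_le _).2 fun d hd => Subgroup.mem_centralizer_singleton_iff.2 (h d hd).eq.symm
    exact Subgroup.mem_centralizer_singleton_iff.1 (hle (H.cl.2.2 ▸ Subgroup.mem_top k))
  rw [H.center_eq_bot, Subgroup.mem_bot] at hc
  exact H44.tt_ne_one H.cl.1 hx hc

theorem exists_two : ∃ a ∈ D, ∃ b ∈ D, a ≠ b := by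
  obtain ⟨x, hx⟩ := H.nonempty
  obtain ⟨f, hf, hxf⟩ := H.exists_noncommute hx
  exact ⟨x, hx, f, hf, fun e => hxf (e ▸ Commute.refl x)⟩

theorem isRigid : H76.LocalTwins.IsRigid D := H76.LocalTwins.isRigid_of_class H.cl H.sol

/-- `C(x)` is transitive on the members commuting with `x`. -/
theorem exists_cj_nb {x y y' : G} (hx : x ∈ D) (hy : y ∈ nb D x) (hy' : y' ∈ nb D x) :
    ∃ g : G, Commute g x ∧ cj g y = y' := by
  obtain ⟨k, hk, hky⟩ := H44.dx_conjugate H.cl H.sol hx hy hy'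
  refine ⟨k, ?_, hky⟩
  refine Subgroup.closure_induction (fun z hz => hz.2.2.symm) (Commute.one_left x)
    (fun _ _ _ _ h h' => h.mul_left h') (fun _ _ h => h.inv_left) hk

/-- `G` is transitive on commuting pairs of members. -/
theorem exists_cj_pair {p q p' q' : G} (hp : p ∈ D) (hq : q ∈ nb D p) (hp' : p' ∈ D)
    (hq' : q' ∈ nb D p') : ∃ g : G, cj g p = p' ∧ cj g q = q' := by
  obtain ⟨g, hg⟩ := H.exists_cj hp hp'
  have h1 := H.cj_nb g hq
  rw [hg] at h1
  obtain ⟨k, hk, hkq⟩ := H.exists_cj_nb hp' h1 hq'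
  exact ⟨k * g, by rw [← cj_cj, hg, cj_eq_of_commute hk], by rw [← cj_cj]; exact hkq⟩

theorem ncard_B {p q p' q' : G} (hp : p ∈ D) (hq : q ∈ nb D p) (hp' : p' ∈ D)
    (hq' : q' ∈ nb D p') : (B D p q).ncard = (B D p' q').ncard := by
  obtain ⟨g, rfl, rfl⟩ := H.exists_cj_pair hp hq hp' hq'
  have : B D (cj g p) (cj g q) = cj g '' B D p q := by
    refine Set.Subset.antisymm (fun d hd => ⟨cj g⁻¹ d, ?_, cj_cj_inv g d⟩) ?_
    · rw [← cj_cj_inv g d, H.mem_B_cj g] at hd
      exact hd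
    · rintro _ ⟨d, hd, rfl⟩
      exact H.cj_B g p q hd
  rw [this, Set.ncard_image_of_injective _ (cj_injective g)]

theorem left_mem_B {p q : G} (hp : p ∈ D) (hq : q ∈ nb D p) : p ∈ B D p q :=
  ⟨hp, Commute.refl p, hq.2.2⟩

theorem right_mem_B {p q : G} (hq : q ∈ nb D p) : q ∈ B D p q :=
  ⟨hq.1, hq.2.2.symm, Commute.refl q⟩

/-- A point of the line through `p` and `q` gives the same line. -/
theorem B_eq_of_onLine {p q r : G} (hp : p ∈ D) (hq : q ∈ nb D p) (hr : OnLine D p q r)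
    (hrp : r ≠ p) : B D p r = B D p q := by
  have hr' : r ∈ nb D p := ⟨hr.1, hrp, (hr.2 p (H.left_mem_B hp hq)).symm⟩
  refine (Set.eq_of_subset_of_ncard_le (s := B D p q) (t := B D p r)
    (fun d hd => ⟨hd.1, hd.2.1, (hr.2 d hd).symm⟩) ?_ (Set.toFinite _)).symm
  exact (H.ncard_B hp hq hp hr').ge

theorem onLine_trans {p q r t : G} (hp : p ∈ D) (hq : q ∈ nb D p) (hr : OnLine D p q r)
    (hrp : r ≠ p) : OnLine D p r t ↔ OnLine D p q t := by
  rw [OnLine, OnLine, H.B_eq_of_onLine hp hq hr hrp]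

theorem onLine_right {p q : G} (hq : q ∈ nb D p) : OnLine D p q q :=
  ⟨hq.1, fun _ hd => hd.2.2.symm⟩

theorem onLine_left {p q : G} (hp : p ∈ D) : OnLine D p q p :=
  ⟨hp, fun _ hd => hd.2.1.symm⟩

theorem onLine_symm {p q r : G} (hp : p ∈ D) (hq : q ∈ nb D p) (hr : OnLine D p q r)
    (hrp : r ≠ p) : OnLine D p r q := (H.onLine_trans hp hq hr hrp).2 (H.onLine_right hq)

theorem onLine_cj (g : G) {p q r : G} :
    OnLine D (cj g p) (cj g q) (cj g r) ↔ OnLine D p q r := by
  constructor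
  · intro h
    refine ⟨by simpa [cj_inv_cj] using H.mem_cj g⁻¹ h.1, fun d hd => ?_⟩
    exact commute_cj_iff.1 (h.2 _ (H.cj_B g p q hd))
  · intro h
    refine ⟨H.mem_cj g h.1, fun d hd => ?_⟩
    rw [← cj_cj_inv g d, H.mem_B_cj g] at hd
    rw [← cj_cj_inv g d]
    exact commute_cj_iff.2 (h.2 _ hd)

/-- Two lines through `x` with the same commuting lines through `x` coincide. -/
theorem exists_separating {x a b : G} (hb : b ∈ nb D x)
    (hl : ¬ OnLine D x a b) :
    ∃ c ∈ nb D x, Commute c a ∧ ¬ Commute c b := by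
  simp only [OnLine, hb.1, true_and] at hl
  push Not at hl
  obtain ⟨c, hc, hcb⟩ := hl
  refine ⟨c, ⟨hc.1, fun e => hcb (e ▸ hb.2.2.symm), hc.2.1.symm⟩, hc.2.2, fun e => hcb e.symm⟩

end Cls

end Cfsg.Agent.H80.TTQuad
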