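import Cfsg.Agent.H80.TTQuad.Dichotomy

/-!
Lines of three or five points: the points collinear with a point, the translations along the lines
through a point, and the product of the points of a line.
-/

set_option autoImplicit false
set_option linter.unusedSectionVars false

namespace Cfsg.Agent.H80.TTQuad

open Cfsg
open H76.LocallyS3 (nb cj cj_cj cj_injective commute_cj_iff)

universe u

variable {G : Type u} [Group G] {D : Set G}

theorem cj_mul_self {g : G} (hg : g * g = 1) (x : G) : cj g (cj g x) = x := by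
  rw [cj_cj, hg, cj_one]

theorem even_ncard_of_involution {α : Type*} {S : Set α} (hS : S.Finite) (f : α → α)
    (hmaps : ∀ a ∈ S, f a ∈ S) (hne : ∀ a ∈ S, f a ≠ a) (hinv : ∀ a ∈ S, f (f a) = a) :
    Even S.ncard := by
  classical
  rw [Set.ncard_eq_toFinset_card S hS]
  have h : ∑ _a ∈ hS.toFinset, (1 : ZMod 2) = 0 := by
    refine Finset.sum_involution (fun a _ => f a) (fun _ _ => by decide)
      (fun a ha _ => hne a (hS.mem_toFinset.1 ha))
      (fun a ha => hS.mem_toFinset.2 (hmaps a (hS.mem_toFinset.1 ha)))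
      (fun a ha => hinv a (hS.mem_toFinset.1 ha))
  rw [Finset.sum_const, nsmul_one, ZMod.natCast_eq_zero_iff_even] at h
  exact h

namespace Quad

variable (Q : Quad D)
include Q

theorem comm_trans {x a b c : G} (hx : x ∈ D) (ha : a ∈ nb D x) (hb : b ∈ nb D x)
    (hc : c ∈ nb D x) (hab : Commute a b) (hbc : Commute b c) : Commute a c :=
  Q.tri x hx b hb a c ⟨ha.1, ha.2.2.symm, hab⟩ ⟨hc.1, hc.2.2.symm, hbc.symm⟩

variable [Finite G]

/-- Two points of a line determine it. -/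
theorem B_eq {p q r r' : G} (hp : p ∈ D) (hq : q ∈ nb D p) (hr : r ∈ B D p q) (hr' : r' ∈ B D p q)
    (hne : r ≠ r') : B D r r' = B D p q := by
  have h : r' ∈ nb D r := ⟨hr'.1, hne.symm, Q.tri p hp q hq r r' hr hr'⟩
  refine (Set.eq_of_subset_of_ncard_le (s := B D p q) (t := B D r r')
    (fun d hd => ⟨hd.1, Q.tri p hp q hq d r hd hr, Q.tri p hp q hq d r' hd hr'⟩) ?_
    (Set.toFinite _)).symm
  exact (Q.ncard_B hp hq hr.1 h).ge

/-- Two points of a line generate it: a common neighbour of two points lies on it. -/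
theorem mem_line {p q r r' d : G} (hp : p ∈ D) (hq : q ∈ nb D p) (hr : r ∈ B D p q)
    (hr' : r' ∈ B D p q) (hne : r ≠ r') (hd : d ∈ D) (h : Commute d r) (h' : Commute d r') :
    d ∈ B D p q :=
  Q.B_eq hp hq hr hr' hne ▸ ⟨hd, h, h'⟩

theorem mem_nb_of_mem_B {p q r : G} (hr : r ∈ B D p q) (hne : r ≠ p) : r ∈ nb D p :=
  ⟨hr.1, hne, hr.2.1.symm⟩

theorem three_le_ncard_B {p q : G} (hp : p ∈ D) (hq : q ∈ nb D p) : 3 ≤ (B D p q).ncard := by
  obtain ⟨r, hr, hrp, hrq⟩ := Q.big p hp q hq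
  have hs : ({p, q, r} : Set G) ⊆ B D p q := by
    rintro d (rfl | rfl | rfl)
    exacts [Q.left_mem_B hp hq, Q.right_mem_B hq, hr]
  refine le_trans ?_ (Set.ncard_le_ncard hs (Set.toFinite _))
  rw [Set.ncard_eq_three.2 ⟨p, q, r, hq.2.1.symm, hrp.symm, hrq.symm, rfl⟩]

/-- Two points `b, b'` of a line through `x` move every other line through `x` into itself. -/
theorem pair_move {x a b b' : G} (hx : x ∈ D) (ha : a ∈ nb D x) (hb : b ∈ nb D x)
    (hb' : b' ∈ nb D x) (hbb : Commute b b') (hab : ¬ Commute a b) :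
    cj (b * b') a ∈ nb D x ∧ Commute a (cj (b * b') a) ∧ (cj (b * b') a = a → b = b') := by
  have hab' : ¬ Commute a b' := fun h => hab (Q.comm_trans hx ha hb' hb h hbb.symm)
  have hbx : Commute (b * b') x := hb.2.2.symm.mul_left hb'.2.2.symm
  refine ⟨Q.cj_mem_nb hbx ha, ?_, fun h => ?_⟩
  · have h1 : Commute (cj b' a) (cj b a) := by
      rw [← Q.braid ha.1 hb'.1 hab', ← Q.braid ha.1 hb.1 hab]
      exact commute_cj_iff.2 hbb.symm
    have h2 := (commute_cj_iff (g := b')).2 h1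
    rw [Q.cj_invol hb'.1, cj_cj] at h2
    rwa [hbb.eq]
  · rw [← cj_cj] at h
    have h1 : cj b' a = cj b a := by
      calc cj b' a = cj b (cj b (cj b' a)) := (Q.cj_invol hb.1 _).symm
        _ = cj b a := by rw [h]
    rw [← Q.braid ha.1 hb'.1 hab', ← Q.braid ha.1 hb.1 hab] at h1
    exact (cj_injective a h1).symm

theorem pair_mul_self {b b' : G} (hb : b ∈ D) (hb' : b' ∈ D) (h : Commute b b') :
    b * b' * (b * b') = 1 := by
  rw [mul_assoc, ← mul_assoc b', ← h.eq, mul_assoc b, Q.sq hb', mul_one, Q.sq hb]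

theorem odd_ncard_B {p q : G} (hp : p ∈ D) (hq : q ∈ nb D p) : Odd (B D p q).ncard := by
  obtain ⟨b, hb, hqb⟩ := Q.exists_noncommute_nb hp hq
  obtain ⟨b', hb', hb'p, hb'b⟩ := Q.big p hp b hb
  have hb'n : b' ∈ nb D p := Q.mem_nb_of_mem_B hb' hb'p
  have hev : Even (B D p q \ {p}).ncard := by
    refine even_ncard_of_involution (Set.toFinite _) (cj (b * b')) ?_ ?_ ?_
    · rintro a ⟨ha, hap⟩
      have han := Q.mem_nb_of_mem_B ha hap
      have hab : ¬ Commute a b := fun h => hqb (Q.comm_trans hp hq han hb ha.2.2.symm h)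
      obtain ⟨h1, h2, -⟩ := Q.pair_move hp han hb hb'n hb'.2.2.symm hab
      exact ⟨⟨h1.1, h1.2.2.symm, Q.comm_trans hp h1 han hq h2.symm ha.2.2⟩, h1.2.1⟩
    · rintro a ⟨ha, hap⟩ h
      have han := Q.mem_nb_of_mem_B ha hap
      have hab : ¬ Commute a b := fun h => hqb (Q.comm_trans hp hq han hb ha.2.2.symm h)
      exact hb'b ((Q.pair_move hp han hb hb'n hb'.2.2.symm hab).2.2 h).symm
    · intro a _
      exact cj_mul_self (Q.pair_mul_self hb.1 hb'.1 hb'.2.2.symm) a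
  rw [← Set.ncard_sdiff_singleton_add_one (Q.left_mem_B hp hq) (Set.toFinite _)]
  exact hev.add_one

/-- Every point is collinear with some point of a given line. -/
theorem exists_trace {p q f : G} (hp : p ∈ D) (hq : q ∈ nb D p) (hf : f ∈ D) :
    ∃ r ∈ B D p q, Commute f r := by
  by_contra hno
  push Not at hno
  have hfp := hno p (Q.left_mem_B hp hq)
  have hfq := hno q (Q.right_mem_B hq)
  have hzz := Q.pair_mul_self hp hq.1 hq.2.2
  set w := f * (p * q) * f with hw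
  have hww : w * w = 1 := by
    rw [hw, show f * (p * q) * f * (f * (p * q) * f) = f * (p * q) * (f * f) * (p * q) * f by group,
      Q.sq hf, mul_one, mul_assoc f (p * q) (p * q), hzz, mul_one, Q.sq hf]
  have hwp : cj w p = q := by
    rw [hw, ← cj_cj, ← cj_cj, ← cj_cj, Q.braid hf hp hfp,
      (show cj p (cj q (cj p f)) = cj q (cj p (cj p f)) by
        rw [cj_cj p q, hq.2.2.eq, ← cj_cj q p]),
      Q.cj_invol hp, ← Q.braid hf hq.1 hfq, Q.cj_invol hf]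
  have hwq : cj w q = p := by rw [← hwp, cj_mul_self hww]
  have hev : Even (B D p q \ {p, q}).ncard := by
    refine even_ncard_of_involution (Set.toFinite _) (cj w) ?_ ?_ (fun a _ => cj_mul_self hww a)
    · rintro a ⟨ha, hap⟩
      have h := Q.cj_B w p q ha
      rw [hwp, hwq, B_comm] at h
      simp only [Set.mem_insert_iff, Set.mem_singleton_iff, not_or] at hap
      refine ⟨h, ?_⟩
      simp only [Set.mem_insert_iff, Set.mem_singleton_iff, not_or]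
      exact ⟨fun e => hap.2 (cj_injective w (e.trans hwq.symm)),
        fun e => hap.1 (cj_injective w (e.trans hwp.symm))⟩
    · rintro a ⟨ha, -⟩ he
      have hfa := hno a ha
      have h1 : cj (p * q) (cj f a) = cj f a := by
        conv_rhs => rw [← he, hw, ← cj_cj, ← cj_cj, Q.cj_invol hf]
      rw [Q.braid hf ha.1 hfa] at h1
      have h2 : Commute (p * q) a := ha.2.1.symm.mul_left ha.2.2.symm
      have h3 : cj (p * q) (cj a f) = cj a (cj (p * q) f) := by rw [cj_cj, cj_cj, h2.eq]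
      rw [h3] at h1
      have h4 := cj_injective a h1
      rw [← cj_cj] at h4
      have h5 : cj q f = cj p f := by
        calc cj q f = cj p (cj p (cj q f)) := (Q.cj_invol hp _).symm
          _ = cj p f := by rw [h4]
      rw [← Q.braid hf hp hfp, ← Q.braid hf hq.1 hfq] at h5
      exact hq.2.1 (cj_injective f h5)
  have hsub : ({p, q} : Set G) ⊆ B D p q := by
    rintro d (rfl | rfl)
    exacts [Q.left_mem_B hp hq, Q.right_mem_B hq]
  have hodd := Q.odd_ncard_B hp hq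
  rw [← Set.ncard_sdiff_add_ncard_of_subset hsub (Set.toFinite _), Set.ncard_pair hq.2.1.symm]
    at hodd
  exact Nat.not_even_iff_odd.2 hodd (hev.add even_two)

/-- A point off a line is collinear with at most one of its points. -/
theorem trace_unique {p q f r r' : G} (hp : p ∈ D) (hq : q ∈ nb D p) (hf : f ∈ D)
    (hnf : f ∉ B D p q) (hr : r ∈ B D p q) (hr' : r' ∈ B D p q) (h : Commute f r)
    (h' : Commute f r') : r = r' :=
  by_contra fun hne => hnf (Q.mem_line hp hq hr hr' hne hf h h')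

theorem exists_translate {x a a' b₀ : G} (hx : x ∈ D) (ha : a ∈ nb D x) (hb₀ : b₀ ∈ nb D x)
    (ha' : a' ∈ nb D x) (haa : Commute a a') (hab : ¬ Commute a b₀) :
    ∃ c ∈ nb D x, Commute c b₀ ∧ cj (c * b₀) a = a' := by
  have hmaps : ∀ c ∈ B D x b₀ \ {x}, cj (c * b₀) a ∈ B D x a \ {x} := by
    rintro c ⟨hc, hcx⟩
    have hcn := Q.mem_nb_of_mem_B hc hcx
    have hac : ¬ Commute a c := fun h => hab (Q.comm_trans hx ha hcn hb₀ h hc.2.2)
    obtain ⟨h1, h2, -⟩ := Q.pair_move hx ha hcn hb₀ hc.2.2 hac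
    exact ⟨⟨h1.1, h1.2.2.symm, h2.symm⟩, h1.2.1⟩
  have hinj : Set.InjOn (fun c => cj (c * b₀) a) (B D x b₀ \ {x}) := by
    rintro c ⟨hc, hcx⟩ c' ⟨hc', hcx'⟩ he
    have hcn := Q.mem_nb_of_mem_B hc hcx
    have hcn' := Q.mem_nb_of_mem_B hc' hcx'
    have hcc : Commute c c' := Q.comm_trans hx hcn hb₀ hcn' hc.2.2 hc'.2.2.symm
    have hac : ¬ Commute a c := fun h => hab (Q.comm_trans hx ha hcn hb₀ h hc.2.2)
    refine (Q.pair_move hx ha hcn hcn' hcc hac).2.2 ?_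
    simp only at he
    have h1 : c * c' = (c' * b₀) * (c * b₀) := by
      rw [mul_assoc, ← mul_assoc b₀, ← hc.2.2.eq, mul_assoc c, Q.sq hb₀.1, mul_one, hcc.eq]
    rw [h1, ← cj_cj, he, cj_mul_self (Q.pair_mul_self hcn'.1 hb₀.1 hc'.2.2)]
  have hcard : (B D x a \ {x}).ncard ≤ (B D x b₀ \ {x}).ncard := by
    rw [Set.ncard_sdiff_singleton_of_mem (Q.left_mem_B hx ha),
      Set.ncard_sdiff_singleton_of_mem (Q.left_mem_B hx hb₀), Q.ncard_B hx ha hx hb₀]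
  obtain ⟨c, hc, hce⟩ := Set.surj_on_of_inj_on_of_ncard_le (s := B D x b₀ \ {x})
    (t := B D x a \ {x}) (fun c _ => cj (c * b₀) a) hmaps (fun _ _ hc hc' he => hinj hc hc' he)
    hcard (Set.toFinite _) a' ⟨⟨ha'.1, ha'.2.2.symm, haa.symm⟩, ha'.2.1⟩
  exact ⟨c, Q.mem_nb_of_mem_B hc.1 hc.2, hc.1.2.2, hce.symm⟩

/-- For two translations along a line their product is a third. -/
theorem exists_four {x a b b' b₀ : G} (hx : x ∈ D) (ha : a ∈ nb D x) (hb : b ∈ nb D x)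
    (hb' : b' ∈ nb D x) (hb₀ : b₀ ∈ nb D x) (h₀ : Commute b b₀) (h₀' : Commute b' b₀)
    (hab : ¬ Commute a b₀) (hne : b ≠ b') (hne₀ : b ≠ b₀) (hne₀' : b' ≠ b₀) :
    ∃ d ∈ nb D x, Commute d b₀ ∧ d ≠ b₀ ∧ d ≠ b ∧ d ≠ b' ∧
      ∀ a' ∈ nb D x, Commute a a' → Commute (b * b₀ * (b' * b₀) * (d * b₀)) a' := by
  have hbb : Commute b b' := Q.comm_trans hx hb hb₀ hb' h₀ h₀'.symm
  have hab' : ¬ Commute a b := fun h => hab (Q.comm_trans hx ha hb hb₀ h h₀)
  have hab'' : ¬ Commute a b' := fun h => hab (Q.comm_trans hx ha hb' hb₀ h h₀')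
  obtain ⟨ha₁, haa₁, -⟩ := Q.pair_move hx ha hb' hb₀ h₀' hab''
  set a₁ := cj (b' * b₀) a with ha₁def
  have hna₁ : ¬ Commute a₁ b := fun h => hab' (Q.comm_trans hx ha ha₁ hb haa₁ h)
  obtain ⟨ha₂, haa₂, -⟩ := Q.pair_move hx ha₁ hb hb₀ h₀ hna₁
  have haa : Commute a (cj (b * b₀) a₁) := Q.comm_trans hx ha ha₁ ha₂ haa₁ haa₂
  obtain ⟨d, hd, hd₀, hde⟩ := Q.exists_translate hx ha hb₀ ha₂ haa hab
  have hcm : ∀ {c c' : G}, Commute c b₀ → Commute c' b₀ → c ∈ nb D x → c' ∈ nb D x →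
      Commute (c * b₀) (c' * b₀) := fun {c c'} h h' hc hc' =>
    ((Q.comm_trans hx hc hb₀ hc' h h'.symm).mul_right h).mul_left
      (h'.symm.mul_right (Commute.refl b₀))
  refine ⟨d, hd, hd₀, ?_, ?_, ?_, fun a' ha' haa' => ?_⟩
  · intro e
    rw [e, Q.sq hb₀.1, cj_one] at hde
    -- the two translations agree on `a`
    have h1 : cj (b * b₀) a = a₁ := by
      conv_lhs => rw [hde, cj_mul_self (Q.pair_mul_self hb.1 hb₀.1 h₀)]
    refine hne ((Q.pair_move hx ha hb hb' hbb hab').2.2 ?_)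
    have h2 : b * b' = (b' * b₀) * (b * b₀) := by
      rw [mul_assoc, ← mul_assoc b₀, ← h₀.eq, mul_assoc b, Q.sq hb₀.1, mul_one, hbb.eq]
    rw [h2, ← cj_cj, h1, ha₁def, cj_mul_self (Q.pair_mul_self hb'.1 hb₀.1 h₀')]
  · rintro rfl
    have h1 := cj_injective _ hde
    exact hne₀' ((Q.pair_move hx ha hb' hb₀ h₀' hab'').2.2 h1.symm)
  · rintro rfl
    rw [← ha₁def] at hde
    exact hne₀ ((Q.pair_move hx ha₁ hb hb₀ h₀ hna₁).2.2 hde.symm)
  · obtain ⟨c, hc, hc₀, hce⟩ := Q.exists_translate hx ha hb₀ ha' haa' hab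
    refine commute_of_cj_eq ?_
    have hA : Commute (b * b₀ * (b' * b₀) * (d * b₀)) (c * b₀) :=
      ((hcm h₀ hc₀ hb hc).mul_left (hcm h₀' hc₀ hb' hc)).mul_left (hcm hd₀ hc₀ hd hc)
    rw [← hce, cj_cj, hA.eq, ← cj_cj]
    refine congrArg _ ?_
    have hBD : b * b₀ * (b' * b₀) * (d * b₀) = (d * b₀) * (b * b₀ * (b' * b₀)) :=
      ((hcm h₀ hd₀ hb hd).mul_left (hcm h₀' hd₀ hb' hd)).eq
    rw [hBD, ← cj_cj (d * b₀), ← cj_cj (b * b₀), ← ha₁def, ← hde, cj_mul_self (Q.pair_mul_self hd.1 hb₀.1 hd₀)]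

/-- Two members collinear with `b` map `f` into the line through `b` and `f`. -/
theorem commute_move {b f b₁ b₂ : G} (hb : b ∈ D) (hf : f ∈ nb D b) (h₁ : b₁ ∈ nb D b)
    (h₂ : b₂ ∈ nb D b) (h : Commute b₁ b₂) (hn : ¬ Commute f b₁) :
    cj (b₁ * b₂) f ∈ nb D b ∧ Commute f (cj (b₁ * b₂) f) :=
  let h' := Q.pair_move hb hf h₁ h₂ h hn
  ⟨h'.1, h'.2.1⟩

/-- Two pairs of points of a line through `x` fixing `a` fix every point whose trace `b` on that
line avoids them and which is collinear with `a`. -/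
theorem fix_far {x a b f b₁ b₂ b₃ b₄ : G} (hx : x ∈ D) (ha : a ∈ nb D x) (hb : b ∈ nb D x)
    (hab : ¬ Commute a b) (hf : f ∈ nb D b) (hfx : ¬ Commute f x) (hfa : Commute f a)
    (h₁ : b₁ ∈ B D x b) (h₂ : b₂ ∈ B D x b) (h₃ : b₃ ∈ B D x b) (h₄ : b₄ ∈ B D x b)
    (n₁ : b₁ ≠ b) (n₂ : b₂ ≠ b) (n₃ : b₃ ≠ b) (n₄ : b₄ ≠ b)
    {e : G} (he : Commute e f) (hfix : Commute (b₁ * b₂ * (b₃ * b₄) * e) a) :
    Commute (b₁ * b₂ * (b₃ * b₄)) f := by
  have hfL : f ∉ B D x b := fun h => hfx h.2.1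
  have hn : ∀ {c}, c ∈ B D x b → c ≠ b → ¬ Commute f c := fun {c} hc hcb h =>
    hfL (Q.mem_line hx hb hc (Q.right_mem_B hb) hcb hf.1 h hf.2.2.symm)
  have hnb : ∀ {c}, c ∈ B D x b → c ≠ b → c ∈ nb D b := fun {c} hc hcb =>
    ⟨hc.1, hcb, hc.2.2.symm⟩
  obtain ⟨h34, hc34⟩ :=
    Q.commute_move hb.1 hf (hnb h₃ n₃) (hnb h₄ n₄) (Q.tri x hx b hb _ _ h₃ h₄) (hn h₃ n₃)
  set f' := cj (b₃ * b₄) f with hf'
  have hf'1 : ¬ Commute f' b₁ := fun h =>
    hn h₁ n₁ (Q.comm_trans hb.1 hf h34 (hnb h₁ n₁) hc34 h)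
  obtain ⟨h12, hc12⟩ :=
    Q.commute_move hb.1 h34 (hnb h₁ n₁) (hnb h₂ n₂) (Q.tri x hx b hb _ _ h₁ h₂) hf'1
  rw [hf', cj_cj] at h12 hc12
  set u := b₁ * b₂ * (b₃ * b₄) with hu
  set g := cj u f with hg
  refine commute_of_cj_eq ?_
  have hga : Commute g a := by
    have h := (commute_cj_iff (g := u * e)).2 hfa
    rwa [cj_eq_of_commute hfix, ← cj_cj, cj_eq_of_commute he] at h
  have hfg : Commute f g := Q.comm_trans hb.1 hf h34 h12 hc34 hc12
  by_contra hne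
  have hgn : g ∈ nb D f := ⟨h12.1, hne, hfg⟩
  have hbm : b ∈ B D f g := ⟨hb.1, hf.2.2, h12.2.2⟩
  exact hab (Q.tri f hf.1 g hgn a b ⟨ha.1, hfa.symm, hga.symm⟩ hbm)

/-- A far point with given trace. -/
theorem exists_far_at {x a b : G} (hx : x ∈ D) (ha : a ∈ nb D x) (hb : b ∈ nb D x)
    (hab : ¬ Commute a b) :
    ∃ f ∈ nb D b, ¬ Commute f x ∧ ∃ a' ∈ nb D x, Commute a a' ∧ Commute f a' := by
  obtain ⟨f, hf, hxf⟩ := Q.exists_noncommute_nb hb.1 (nb_symm hx hb)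
  obtain ⟨r, hr, hfr⟩ := Q.exists_trace hx ha hf.1
  have hrx : r ≠ x := fun e => hxf (e ▸ hfr).symm
  exact ⟨f, hf, fun h => hxf h.symm, r, Q.mem_nb_of_mem_B hr hrx, hr.2.2.symm, hfr⟩

theorem ncard_B_le_five {p q : G} (hp : p ∈ D) (hq : q ∈ nb D p) : (B D p q).ncard ≤ 5 := by
  classical
  by_contra hlt
  push Not at hlt
  obtain ⟨a, ha, hqa⟩ := Q.exists_noncommute_nb hp hq
  have hab : ¬ Commute a q := fun h => hqa h.symm
  have hpick : ∀ T : Finset G, T.card ≤ 5 → ∃ c ∈ B D p q, c ∉ T := by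
    intro T hT
    by_contra hall
    push Not at hall
    have := (Set.ncard_le_ncard (show B D p q ⊆ (T : Set G) from fun c hc => hall c hc)
      T.finite_toSet).trans_eq (Set.ncard_coe_finset T)
    omega
  obtain ⟨b', hb'L, hb'n⟩ := hpick {p, q} (Finset.card_le_two.trans (by norm_num))
  obtain ⟨b₀, hb₀L, hb₀n⟩ := hpick {p, q, b'} (Finset.card_le_three.trans (by norm_num))
  simp only [Finset.mem_insert, Finset.mem_singleton, not_or] at hb'n hb₀n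
  have hb'N := Q.mem_nb_of_mem_B hb'L hb'n.1
  have hb₀N := Q.mem_nb_of_mem_B hb₀L hb₀n.1
  have hab₀ : ¬ Commute a b₀ := fun h => hab (Q.comm_trans hp ha hb₀N hq h hb₀L.2.2)
  obtain ⟨d, hd, hd₀, hdne₀, hdq, hdb', hfix⟩ := Q.exists_four hp ha hq hb'N hb₀N hb₀L.2.2.symm
    (Q.tri p hp q hq _ _ hb'L hb₀L) hab₀ (Ne.symm hb'n.2) (Ne.symm hb₀n.2.1) (Ne.symm hb₀n.2.2)
  have hdL : d ∈ B D p q :=
    ⟨hd.1, hd.2.2.symm, Q.comm_trans hp hd hb₀N hq hd₀ hb₀L.2.2⟩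
  obtain ⟨b₅, hb₅L, hb₅n⟩ := hpick {p, q, b', b₀, d} Finset.card_le_five
  simp only [Finset.mem_insert, Finset.mem_singleton, not_or] at hb₅n
  have hb₅N := Q.mem_nb_of_mem_B hb₅L hb₅n.1
  have hL₅ : B D p b₅ = B D p q := Q.B_eq hp hq (Q.left_mem_B hp hq) hb₅L (Ne.symm hb₅n.1)
  -- the product of the four points
  set u := q * b₀ * (b' * b₀) * (d * b₀) with hu
  have hcomm : ∀ {c c'}, c ∈ B D p q → c' ∈ B D p q → Commute c c' :=
    fun {c c'} hc hc' => Q.tri p hp q hq c c' hc hc'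
  have hqL := Q.right_mem_B hq
  have hu4 : u = q * b' * (d * b₀) := by
    rw [hu, mul_assoc q b₀, ← mul_assoc b₀, (hcomm hb₀L hb'L).eq, mul_assoc b', Q.sq hb₀N.1, mul_one]
  -- a point with trace `q`
  obtain ⟨f, hf, hfx, a', ha', haa', hfa'⟩ := Q.exists_far_at hp ha hq hab
  have hab' : ¬ Commute a' q := fun h => hab (Q.comm_trans hp ha ha' hq haa' h)
  have hux : Commute (q * b' * (d * b₀) * p) f := by
    have h2 : p * b' * (d * b₀) * q = q * b' * (d * b₀) * p := by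
      have hpq : Commute (b' * (d * b₀)) q :=
        (hcomm hb'L hqL).mul_left ((hcomm hdL hqL).mul_left (hcomm hb₀L hqL))
      have hpp : Commute (b' * (d * b₀)) p :=
        hb'L.2.1.mul_left (hdL.2.1.mul_left hb₀L.2.1)
      simp only [mul_assoc] at hpq hpp ⊢
      calc p * (b' * (d * (b₀ * q))) = p * (q * (b' * (d * b₀))) :=
            congrArg (p * ·) (by simpa only [mul_assoc] using hpq.eq)
        _ = q * (p * (b' * (d * b₀))) := by rw [← mul_assoc, hq.2.2.eq, mul_assoc]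
        _ = q * (b' * (d * (b₀ * p))) :=
            congrArg (q * ·) (by simpa only [mul_assoc] using hpp.eq.symm)
    have hua : Commute (q * b' * (d * b₀) * p) a' := (hu4 ▸ hfix a' ha' haa').mul_left ha'.2.2
    have h3 := Q.fix_far hp ha' hq hab' hf hfx hfa' (Q.left_mem_B hp hq) hb'L hdL hb₀L
      hq.2.1.symm hb'n.2 hdq hb₀n.2.1 hf.2.2 (h2.symm ▸ hua)
    exact h2 ▸ h3.mul_left hf.2.2
  -- move the trace off the four points
  obtain ⟨c, hc, hca, hce⟩ :=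
    Q.exists_translate hp hq ha hb₅N hb₅L.2.2.symm (fun h => hab h.symm)
  set v := c * a with hv
  have huv : Commute (q * b' * (d * b₀)) v :=
    (hu4 ▸ hfix c hc hca.symm).mul_right (hu4 ▸ hfix a ha (Commute.refl a))
  have hvp : Commute v p := hc.2.2.symm.mul_left ha.2.2.symm
  have hf₅ : cj v f ∈ nb D b₅ := hce ▸ Q.cj_nb v hf
  have hfx₅ : ¬ Commute (cj v f) p := fun h => by
    rw [← cj_eq_of_commute hvp] at h
    exact hfx (commute_cj_iff.1 h)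
  have ha₅ : cj v a' ∈ nb D p := Q.cj_mem_nb hvp ha'
  have hab₅ : ¬ Commute (cj v a') b₅ := fun h => hab' (by rw [← hce] at h; exact commute_cj_iff.1 h)
  have hfa₅ : Commute (cj v f) (cj v a') := commute_cj_iff.2 hfa'
  have hua₅ : Commute (q * b' * (d * b₀)) (cj v a') :=
    (huv.mul_right (hu4 ▸ hfix a' ha' haa')).mul_right huv.inv_right
  have h4 : Commute (q * b' * (d * b₀)) (cj v f) := by
    rw [← hL₅] at hqL hb'L hdL hb₀L
    exact Q.fix_far hp ha₅ hb₅N hab₅ hf₅ hfx₅ hfa₅ hqL hb'L hdL hb₀L (Ne.symm hb₅n.2.1)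
      (Ne.symm hb₅n.2.2.1) (Ne.symm hb₅n.2.2.2.2) (Ne.symm hb₅n.2.2.2.1) (Commute.one_left _)
      (by rwa [mul_one])
  have h5 : Commute (q * b' * (d * b₀) * p) (cj v f) :=
    ((huv.mul_left hvp.symm).mul_right hux).mul_right (huv.mul_left hvp.symm).inv_right
  have h6 := h4.inv_left.mul_left h5
  rw [inv_mul_cancel_left] at h6
  exact hfx₅ h6.symm

theorem ncard_B_cases {p q : G} (hp : p ∈ D) (hq : q ∈ nb D p) :
    (B D p q).ncard = 3 ∨ (B D p q).ncard = 5 := by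
  have h1 := Q.three_le_ncard_B hp hq
  have h2 := Q.ncard_B_le_five hp hq
  obtain ⟨k, hk⟩ := Q.odd_ncard_B hp hq
  omega

/-- The points of a line of five points multiply to `1`. -/
theorem five_prod {x b₁ b₂ b₃ b₄ : G} (hx : x ∈ D) (h₁ : b₁ ∈ nb D x)
    (hL : B D x b₁ = {x, b₁, b₂, b₃, b₄}) (hcard : (B D x b₁).ncard = 5) :
    x * (b₁ * b₂ * (b₃ * b₄)) = 1 := by
  classical
  have hdist : b₁ ≠ b₂ ∧ b₁ ≠ b₃ ∧ b₁ ≠ b₄ ∧ b₂ ≠ b₃ ∧ b₂ ≠ b₄ ∧ b₃ ≠ b₄ ∧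
      x ≠ b₂ ∧ x ≠ b₃ ∧ x ≠ b₄ := by
    have h4 : ∀ S : Finset G, (∀ d ∈ B D x b₁, d ∈ S) → 5 ≤ S.card := fun S hS => by
      rw [← hcard, ← Set.ncard_coe_finset]
      exact Set.ncard_le_ncard hS S.finite_toSet
    rw [hL] at h4
    refine ⟨?_, ?_, ?_, ?_, ?_, ?_, ?_, ?_, ?_⟩ <;> intro e
    all_goals
      subst e
      first
      | exact absurd ((h4 {x, b₁, b₃, b₄} (by simp)).trans Finset.card_le_four) (by norm_num)
      | exact absurd ((h4 {x, b₁, b₂, b₄} (by simp)).trans Finset.card_le_four) (by norm_num)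
      | exact absurd ((h4 {x, b₁, b₂, b₃} (by simp)).trans Finset.card_le_four) (by norm_num)
  obtain ⟨n12, n13, n14, n23, n24, n34, nx2, nx3, nx4⟩ := hdist
  have m₁ := Q.right_mem_B h₁
  have m₂ : b₂ ∈ B D x b₁ := by rw [hL]; simp
  have m₃ : b₃ ∈ B D x b₁ := by rw [hL]; simp
  have m₄ : b₄ ∈ B D x b₁ := by rw [hL]; simp
  have mx := Q.left_mem_B hx h₁
  have N₂ := Q.mem_nb_of_mem_B m₂ nx2.symm
  have N₃ := Q.mem_nb_of_mem_B m₃ nx3.symm
  have N₄ := Q.mem_nb_of_mem_B m₄ nx4.symm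
  have hcomm : ∀ {c c'}, c ∈ B D x b₁ → c' ∈ B D x b₁ → Commute c c' :=
    fun {c c'} hc hc' => Q.tri x hx b₁ h₁ c c' hc hc'
  set U := b₁ * b₂ * (b₃ * b₄) with hU
  have hUx : Commute U x := (m₁.2.1.mul_left m₂.2.1).mul_left (m₃.2.1.mul_left m₄.2.1)
  -- `U` fixes the points collinear with `x`
  have hnbx : ∀ a ∈ nb D x, Commute (x * U) a := by
    intro a ha
    refine ha.2.2.mul_left ?_
    by_cases hab : Commute a b₁
    · have haL : a ∈ B D x b₁ := ⟨ha.1, ha.2.2.symm, hab⟩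
      exact ((hcomm m₁ haL).mul_left (hcomm m₂ haL)).mul_left ((hcomm m₃ haL).mul_left (hcomm m₄ haL))
    have hab₄ : ¬ Commute a b₄ := fun h => hab (Q.comm_trans hx ha N₄ h₁ h m₄.2.2)
    obtain ⟨d, hd, hd₄, hdn₄, hdn₁, hdn₂, hfix⟩ :=
      Q.exists_four hx ha h₁ N₂ N₄ (hcomm m₁ m₄) (hcomm m₂ m₄) hab₄ n12 n14 n24
    have hdL : d ∈ B D x b₁ := ⟨hd.1, hd.2.2.symm, Q.comm_trans hx hd N₄ h₁ hd₄ m₄.2.2⟩
    rw [hL] at hdL
    simp only [Set.mem_insert_iff, Set.mem_singleton_iff, hd.2.1, hdn₁, hdn₂, hdn₄, false_or,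
      or_false] at hdL
    subst hdL
    have h := hfix a ha (Commute.refl a)
    rw [mul_assoc b₁ b₄, ← mul_assoc b₄ b₂, (hcomm m₄ m₂).eq, mul_assoc b₂, Q.sq N₄.1,
      mul_one] at h
    exact h
  -- far points
  have hkey : ∀ c₁ c₂ c₃ c₄ f : G, c₁ ∈ B D x b₁ → c₂ ∈ B D x b₁ → c₃ ∈ B D x b₁ →
      c₄ ∈ B D x b₁ → c₁ ≠ c₄ → c₂ ≠ c₄ → c₃ ≠ c₄ → c₄ ≠ x → f ∈ nb D c₄ → ¬ Commute f x →
      x * (c₁ * c₂ * (c₃ * c₄)) = x * U → Commute (x * U) f := by
    intro c₁ c₂ c₃ c₄ f k₁ k₂ k₃ k₄ e₁ e₂ e₃ ex hf hfx heq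
    have N : c₄ ∈ nb D x := Q.mem_nb_of_mem_B k₄ ex
    have hB : B D x c₄ = B D x b₁ := Q.B_eq hx h₁ mx k₄ ex.symm
    obtain ⟨a, ha, hac⟩ := Q.exists_noncommute_nb hx N
    obtain ⟨r, hr, hfr⟩ := Q.exists_trace hx ha hf.1
    have hrx : r ≠ x := fun e => hfx (e ▸ hfr)
    have hrn := Q.mem_nb_of_mem_B hr hrx
    have hrc : ¬ Commute r c₄ := fun h => hac (Q.comm_trans hx ha hrn N hr.2.2.symm h).symm
    have hcx : Commute (c₁ * c₂ * (c₃ * c₄)) x :=
      (k₁.2.1.mul_left k₂.2.1).mul_left (k₃.2.1.mul_left k₄.2.1)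
    have hW : c₁ * c₂ * (c₃ * x) * c₄ = x * U := by
      rw [← heq, ← hcx.eq]
      simp only [mul_assoc, k₄.2.1.eq]
    rw [← hB] at k₁ k₂ k₃
    have h := Q.fix_far hx hrn N hrc hf hfx hfr k₁ k₂ k₃ (Q.left_mem_B hx N) e₁ e₂ e₃ ex.symm
      hf.2.2 (hW.symm ▸ hnbx r hrn)
    exact hW ▸ h.mul_left hf.2.2
  refine Q.eq_one_of_fix fun f hf => cj_eq_of_commute ?_
  by_cases hxf : Commute x f
  · by_cases hfe : f = x
    · exact hfe ▸ (Commute.refl x).mul_left hUx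
    · exact hnbx f ⟨hf, hfe, hxf⟩
  have hfx : ¬ Commute f x := fun h => hxf h.symm
  obtain ⟨r, hr, hfr⟩ := Q.exists_trace hx h₁ hf
  have hrx : r ≠ x := fun e => hfx (e ▸ hfr)
  have hrf : f ∈ nb D r := ⟨hf, fun e => hfx (e ▸ hr.2.1), hfr.symm⟩
  have hswap : ∀ {u v w z : G}, v ∈ B D x b₁ → w ∈ B D x b₁ → z ∈ B D x b₁ →
      u * v * (w * z) = u * z * (w * v) := by
    intro u v w z hv hw hz
    rw [(hcomm hw hz).eq, (hcomm hv hz).mul_mul_mul_comm, (hcomm hv hw).eq]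
  rw [hL] at hr
  simp only [Set.mem_insert_iff, Set.mem_singleton_iff, hrx, false_or] at hr
  rcases hr with rfl | rfl | rfl | rfl
  · refine hkey b₂ b₄ b₃ r f m₂ m₄ m₃ m₁ n12.symm n14.symm n13.symm hrx hrf hfx ?_
    rw [hU, hswap m₄ m₃ m₁, (hcomm m₂ m₁).eq]
  · exact hkey b₁ b₄ b₃ r f m₁ m₄ m₃ m₂ n12 n24.symm n23.symm hrx hrf hfx
      (by rw [hU, hswap m₄ m₃ m₂])
  · exact hkey b₁ b₂ b₄ r f m₁ m₂ m₄ m₃ n13 n23 n34.symm hrx hrf hfx
      (by rw [hU, (hcomm m₄ m₃).eq])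
  · exact hkey b₁ b₂ b₃ r f m₁ m₂ m₃ m₄ n14 n24 n34 hrx hrf hfx rfl

end Quad

end Cfsg.Agent.H80.TTQuad
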