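import Cfsg.Agent.H80.TTQuad.Basic

/-!
The residue of a member with solvable `⟨D_x⟩`: every line through `x` has a partner with the same
commuting lines, so three pairwise commuting members are collinear or the group is `S₅`.
-/

set_option autoImplicit false
set_option linter.unusedSectionVars false

namespace Cfsg.Agent.H80.TTQuad

open Cfsg
open H76.LocallyS3 (nb cj cj_cj cj_injective commute_cj_iff)

universe u

variable {G : Type u} [Group G] {D : Set G}

theorem commute_of_mem_closure_nb {x k : G} (hk : k ∈ Subgroup.closure (nb D x)) : Commute k x :=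
  Subgroup.closure_induction (fun _ hz => hz.2.2.symm) (Commute.one_left x)
    (fun _ _ _ _ h h' => h.mul_left h') (fun _ _ h => h.inv_left) hk

namespace Cls

variable [Finite G] (H : Cls D)
include H

theorem commute_of_onLine {x a b : G} (ha : a ∈ nb D x) (h : OnLine D x a b) : Commute a b :=
  (h.2 a (H.right_mem_B ha)).symm

theorem nb_nonempty {x : G} (hx : x ∈ D) : (nb D x).Nonempty := by
  by_contra hne
  rw [Set.not_nonempty_iff_eq_empty] at hne
  have hall : ∀ a ∈ D, ∀ b ∈ D, (a * b) ^ 3 = 1 := by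
    intro a ha b hb
    by_cases hab : a = b
    · rw [hab, H.sq hb, one_pow]
    refine H.cube ha hb fun hc => ?_
    obtain ⟨g, rfl⟩ := H.exists_cj hx ha
    have h : cj g⁻¹ b ∈ nb D (cj g⁻¹ (cj g x)) :=
      H.cj_nb g⁻¹ (⟨hb, fun e => hab e.symm, hc⟩ : b ∈ nb D (cj g x))
    rw [cj_inv_cj, hne] at h
    exact h
  set P := Subgroup.closure {z | ∃ a ∈ D, ∃ b ∈ D, z = a * b} with hP
  have hp : IsPGroup 3 P := Components.isPGroup_closure_products Components.zStarTheorem
    H.cl.1.1 (fun a ha b hb => by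
      have h := H.mem_cj a hb
      rwa [cj, H.inv' ha] at h) hall
  have hn : P.Normal := by
    refine ⟨fun z hz g => ?_⟩
    have hmap : P.map (MulAut.conj g).toMonoidHom ≤ P := by
      rw [hP, MonoidHom.map_closure, Subgroup.closure_le]
      rintro _ ⟨_, ⟨a, ha, b, hb, rfl⟩, rfl⟩
      refine Subgroup.subset_closure ⟨_, H.mem_cj g ha, _, H.mem_cj g hb, ?_⟩
      simp [cj]
    exact hmap ⟨z, hz, rfl⟩
  have : Fact (Nat.Prime 3) := ⟨Nat.prime_three⟩
  have : Group.IsNilpotent P := hp.isNilpotent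
  have hbot : P = ⊥ := H.sol P hn inferInstance
  obtain ⟨a, ha, b, hb, hab⟩ := H.exists_two
  have h1 : a * b ∈ P := Subgroup.subset_closure ⟨a, ha, b, hb, rfl⟩
  rw [hbot, Subgroup.mem_bot] at h1
  exact hab ((eq_inv_of_mul_eq_one_left h1).trans (H.inv' hb))

theorem exists_noncommute_nb {x a : G} (hx : x ∈ D) (ha : a ∈ nb D x) :
    ∃ c ∈ nb D x, ¬ Commute a c := by
  by_cases h : ∀ c ∈ nb D x, c = a
  · exfalso
    refine ha.2.1 (H.eq_of_commute_subset hx ha.1 fun w hw hxw => ?_).symm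
    by_cases hwx : w = x
    · rw [hwx]; exact ha.2.2.symm
    · rw [h w ⟨hw, hwx, hxw⟩]
  · push Not at h
    obtain ⟨c, hc, hca⟩ := h
    rcases (H44.dx_connected H.cl H.sol hx ha hc).cases_head with h1 | ⟨d, h1, -⟩
    · exact absurd h1.symm hca
    · exact ⟨d, h1.2.1, h1.2.2⟩

end Cls

/-- Every member's commuting set generates a solvable group. -/
def SolvRes (D : Set G) : Prop := ∀ x ∈ D, Group.IsSolvable ↥(Subgroup.closure (nb D x))

theorem Cls.solvRes [Finite G] (H : Cls D) {x : G} (hx : x ∈ D)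
    (h : Group.IsSolvable ↥(Subgroup.closure (nb D x))) : SolvRes D := by
  intro y hy
  obtain ⟨g, rfl⟩ := H.exists_cj hx hy
  have hset : nb D (cj g x) = (MulAut.conj g).toMonoidHom '' nb D x := by
    refine Set.Subset.antisymm (fun d hd => ⟨cj g⁻¹ d, ?_, cj_cj_inv g d⟩) ?_
    · have := H.cj_nb g⁻¹ hd
      rwa [cj_inv_cj] at this
    · rintro _ ⟨d, hd, rfl⟩
      exact H.cj_nb g hd
  rw [hset, ← MonoidHom.map_closure]
  exact Group.isSolvable_of_surjective ((MulAut.conj g).toMonoidHom.subgroupMap_surjective _)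

theorem exists_pCore_ne_bot {Y : Type*} [Group Y] [Finite Y] [Nontrivial Y] [Group.IsSolvable Y] :
    ∃ p : ℕ, p.Prime ∧ Cfsg.pCore p Y ≠ ⊥ := by
  classical
  obtain ⟨n, hn⟩ := (inferInstance : Group.IsSolvable Y).solvable
  have hex : ∃ n, derivedSeries Y n = ⊥ := ⟨n, hn⟩
  obtain ⟨k, hk⟩ : ∃ k, Nat.find hex = k + 1 := by
    refine Nat.exists_eq_succ_of_ne_zero fun h0 => ?_
    have := Nat.find_spec hex
    rw [h0, derivedSeries_zero] at this
    exact top_ne_bot this
  set A := derivedSeries Y k with hA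
  have hne : A ≠ ⊥ := Nat.find_min hex (by omega)
  have hcomm : ⁅A, A⁆ = ⊥ := by
    have := Nat.find_spec hex
    rwa [hk, derivedSeries_succ] at this
  have : IsMulCommutative A := by
    refine Subgroup.le_centralizer_iff_isMulCommutative.1 ?_
    rwa [← Subgroup.commutator_eq_bot_iff_le_centralizer]
  have hnil : Group.IsNilpotent A := by open scoped IsMulCommutative in infer_instance
  have hAn : A.Normal := derivedSeries_normal Y k
  by_contra hall
  push Not at hall
  refine hne (le_bot_iff.1 ((Components.nilpotent_normal_le_iSup_pCore A hnil).trans ?_))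
  exact iSup_le fun p => (hall p (Nat.prime_of_mem_primeFactors p.2)).le

namespace Cls

variable [Finite G] (H : Cls D)
include H

/-- The elements of `⟨D_x⟩` fixing every line through `x`. -/
def lineKer {x : G} (hx : x ∈ D) : Subgroup ↥(Subgroup.closure (nb D x)) where
  carrier := {g | ∀ a ∈ nb D x, OnLine D x a (cj (g : G) a)}
  one_mem' := fun a ha => by
    rw [Subgroup.coe_one, cj_one]; exact H.onLine_right ha
  mul_mem' := by
    intro g k hg hk a ha
    have hkx := commute_of_mem_closure_nb k.2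
    have ha' := H.cj_mem_nb hkx ha
    rw [Subgroup.coe_mul, ← cj_cj]
    exact (H.onLine_trans hx ha (hk a ha) ha'.2.1).1 (hg _ ha')
  inv_mem' := by
    intro g hg a ha
    have ha' := H.cj_mem_nb (commute_of_mem_closure_nb (inv_mem g.2)) ha
    rw [Subgroup.coe_inv]
    have h := hg _ ha'
    rw [cj_cj_inv] at h
    exact H.onLine_symm hx ha' h ha.2.1

theorem lineKer_normal {x : G} (hx : x ∈ D) : (H.lineKer hx).Normal := by
  refine ⟨fun g hg h a ha => ?_⟩
  have hhx := commute_of_mem_closure_nb h.2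
  have ha' := H.cj_mem_nb hhx.inv_left ha
  have h1 := (H.onLine_cj (h : G)).2 (hg _ ha')
  rw [cj_eq_of_commute hhx, cj_cj_inv, cj_cj, cj_cj] at h1
  rwa [Subgroup.coe_mul, Subgroup.coe_mul, Subgroup.coe_inv]

/-- Each line through `x` has a partner with the same commuting lines. -/
theorem exists_partner {x a : G} (hs : SolvRes D) (hx : x ∈ D) (ha : a ∈ nb D x) :
    ∃ b ∈ nb D x, ¬ Commute a b ∧ ∀ c ∈ nb D x, ¬ OnLine D x a c → ¬ OnLine D x b c →
      (Commute c a ↔ Commute c b) := by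
  classical
  have := hs x hx
  set X := Subgroup.closure (nb D x) with hX
  have := H.lineKer_normal hx
  set N := H.lineKer hx with hN
  let π := QuotientGroup.mk' N
  let e : ∀ c : G, c ∈ nb D x → ↥X := fun c hc => ⟨c, Subgroup.subset_closure hc⟩
  have hsq : ∀ c hc, π (e c hc) * π (e c hc) = 1 := fun c hc => by
    rw [← map_mul, show e c hc * e c hc = 1 from Subtype.ext (H.sq hc.1), map_one]
  have hinv : ∀ c hc, (π (e c hc))⁻¹ = π (e c hc) := fun c hc =>
    inv_eq_of_mul_eq_one_right (hsq c hc)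
  have hcomm : ∀ c hc d hd, Commute c d → Commute (π (e c hc)) (π (e d hd)) := fun c hc d hd h =>
    (show Commute (e c hc) (e d hd) from Subtype.ext h.eq).map π
  have heq : ∀ c hc d hd, π (e c hc) = π (e d hd) → OnLine D x c d := by
    intro c hc d hd h
    have hm : e c hc * e d hd ∈ N := by
      rw [← QuotientGroup.eq_one_iff]
      show π (e c hc * e d hd) = 1
      rw [map_mul, h, hsq d hd]
    by_cases hcd : Commute c d
    · by_contra hl
      obtain ⟨r, hr, hrc, hrd⟩ := H.exists_separating hd hl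
      have h1 := hm r hr
      rw [Subgroup.coe_mul, hcd.eq, ← cj_cj, cj_eq_of_commute hrc.symm,
        H.braid hd.1 hr.1 (fun q => hrd q.symm)] at h1
      exact (H.not_commute_cj hr.1 hd.1 hrd).2 (H.commute_of_onLine hr h1)
    · have h1 := hm c hc
      rw [Subgroup.coe_mul, ← cj_cj, H.braid hd.1 hc.1 (fun q => hcd q.symm), H.cj_invol hc.1] at h1
      exact absurd (H.commute_of_onLine hc h1) hcd
  have hne1 : ∀ c hc, π (e c hc) ≠ 1 := by
    intro c hc h
    obtain ⟨d, hd, hcd⟩ := H.exists_noncommute_nb hx hc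
    have h1 : e c hc ∈ N := (QuotientGroup.eq_one_iff _).1 h
    have h2 := h1 d hd
    simp only [e] at h2
    rw [H.braid hc.1 hd.1 hcd] at h2
    exact (H.not_commute_cj hd.1 hc.1 fun q => hcd q.symm).2 (H.commute_of_onLine hd h2)
  have hlift : ∀ c hc d hd, ¬ OnLine D x c d → Commute (π (e c hc)) (π (e d hd)) →
      Commute c d := by
    intro c hc d hd hl h
    by_contra hcd
    refine hl (heq c hc d hd ?_)
    have h3 : π (e c hc * e d hd) ^ 3 = 1 := by
      rw [← map_pow, show (e c hc * e d hd) ^ 3 = 1 from Subtype.ext (H.cube hc.1 hd.1 hcd), map_one]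
    have h2 : π (e c hc * e d hd) ^ 2 = 1 := by
      rw [map_mul, h.mul_pow, pow_two, pow_two, hsq c hc, hsq d hd, one_mul]
    have h1 := Components.eq_one_of_two_three h2 h3
    rw [map_mul] at h1
    exact (eq_inv_of_mul_eq_one_left h1).trans (hinv d hd)
  -- the class
  set E : Set (↥X ⧸ N) := {q | ∃ c hc, q = π (e c hc)} with hE
  have hEc : Cfsg.IsThreeTranspositionClass E := by
    refine ⟨⟨?_, ?_⟩, ⟨π (e a ha), ⟨a, ha, rfl⟩, Set.ext fun q => ⟨?_, fun hq => ?_⟩⟩, ?_⟩
    · rintro _ ⟨c, hc, rfl⟩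
      exact orderOf_eq_prime (by rw [pow_two]; exact hsq c hc) (hne1 c hc)
    · rintro _ ⟨c, hc, rfl⟩ _ ⟨d, hd, rfl⟩
      rcases H.cl.1.2 c hc.1 d hd.1 with h | h
      · exact Or.inl (by rw [← map_mul, ← map_pow, show (e c hc * e d hd) ^ 2 = 1 from
          Subtype.ext h, map_one])
      · exact Or.inr (by rw [← map_mul, ← map_pow, show (e c hc * e d hd) ^ 3 = 1 from
          Subtype.ext h, map_one])
    · rintro ⟨c, hc, rfl⟩
      obtain ⟨g, hg, hga⟩ := H44.dx_conjugate H.cl H.sol hx ha hc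
      refine isConj_iff.2 ⟨π ⟨g, hg⟩, ?_⟩
      rw [← map_inv, ← map_mul, ← map_mul]
      exact congrArg π (Subtype.ext hga)
    · obtain ⟨q', rfl⟩ := isConj_iff.1 hq
      obtain ⟨g, rfl⟩ := QuotientGroup.mk'_surjective N q'
      refine ⟨cj (g : G) a, H.cj_mem_nb (commute_of_mem_closure_nb g.2) ha, ?_⟩
      rw [← map_inv, ← map_mul, ← map_mul]
      rfl
    · have himg : E = π '' ((X.subtype) ⁻¹' nb D x) := Set.ext fun q =>
        ⟨fun ⟨c, hc, h⟩ => ⟨e c hc, hc, h.symm⟩, fun ⟨g, hg, h⟩ => ⟨g, hg, h.symm⟩⟩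
      rw [himg, ← MonoidHom.map_closure, show Subgroup.closure ((X.subtype) ⁻¹' nb D x) = ⊤ from
        Subgroup.closure_closure_coe_preimage,
        Subgroup.map_top_of_surjective π (QuotientGroup.mk'_surjective N)]
  have hZ : Subgroup.center (↥X ⧸ N) = ⊥ := by
    refine eq_bot_iff.2 fun z hz => ?_
    obtain ⟨g, rfl⟩ := QuotientGroup.mk'_surjective N z
    rw [Subgroup.mem_bot]
    refine (QuotientGroup.eq_one_iff g).2 fun c hc => ?_
    have hc' := H.cj_mem_nb (commute_of_mem_closure_nb g.2) hc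
    refine heq c hc _ hc' ?_
    rw [show e _ hc' = g * e c hc * g⁻¹ from Subtype.ext rfl, map_mul, map_mul, map_inv,
      ← Subgroup.mem_center_iff.1 hz (π (e c hc)), mul_inv_cancel_right]
  have h2 : Cfsg.pCore 2 (↥X ⧸ N) ≤ Subgroup.center (↥X ⧸ N) := by
    by_contra hn
    obtain ⟨v, ⟨d, hd, rfl⟩, hne, hmem⟩ := Components.exists_ne_mul_mem hEc hn ⟨a, ha, rfl⟩
    have hl : ¬ OnLine D x a d := by
      intro hl
      apply hne
      have hN' : e a ha * e d hd ∈ N := by
        intro c hc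
        rw [Subgroup.coe_mul, ← cj_cj]
        show OnLine D x c (cj a (cj d c))
        by_cases hac : Commute a c
        · rw [cj_eq_of_commute (hl.2 c ⟨hc.1, hc.2.2.symm, hac.symm⟩), cj_eq_of_commute hac]
          exact H.onLine_right hc
        · have hdc : ¬ Commute d c := fun q => hac
            ((H.onLine_symm hx ha hl hd.2.1).2 c ⟨hc.1, hc.2.2.symm, q.symm⟩)
          have h1 : OnLine D x (cj c a) (cj c d) := by
            have := (H.onLine_cj c).2 hl
            rwa [cj_eq_of_commute hc.2.2.symm] at this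
          rw [← H.braid ha.1 hc.1 hac, ← H.braid hd.1 hc.1 hdc] at h1
          have h2 := (H.onLine_cj a).2 h1
          rwa [cj_eq_of_commute ha.2.2.symm, H.cj_invol ha.1] at h2
      have h1 : π (e a ha) * π (e d hd) = 1 := by
        rw [← map_mul]; exact (QuotientGroup.eq_one_iff _).2 hN'
      rw [eq_inv_of_mul_eq_one_right h1]
      exact hinv a ha
    obtain ⟨c, hc, hca, hcd⟩ := H.exists_separating hd hl
    have hcd' : ¬ OnLine D x c d := fun q => hcd (H.commute_of_onLine hc q)
    refine hcd (hlift c hc d hd hcd' ?_)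
    exact ((Components.twin_of_pCore_two hEc.1 ⟨a, ha, rfl⟩ ⟨d, hd, rfl⟩ hmem _ ⟨c, hc, rfl⟩).2
      (hcomm a ha c hc hca.symm)).symm
  have : Nontrivial (↥X ⧸ N) := ⟨⟨π (e a ha), 1, hne1 a ha⟩⟩
  have : Group.IsSolvable (↥X ⧸ N) :=
    Group.isSolvable_of_surjective (QuotientGroup.mk'_surjective N)
  obtain ⟨p, hp, hpne⟩ := exists_pCore_ne_bot (Y := ↥X ⧸ N)
  have hp3 : p = 3 := by
    by_contra h3
    apply hpne
    rw [eq_bot_iff, ← hZ]
    rcases Nat.lt_or_ge p 3 with h | h
    · obtain rfl : p = 2 := by have := hp.two_le; omega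
      exact h2
    · exact Components.pCore_le_center_of_gt_three hEc hp (by omega)
  subst hp3
  have hn : ¬ Cfsg.pCore 3 (↥X ⧸ N) ≤ Subgroup.center (↥X ⧸ N) := fun h =>
    hpne (by rwa [hZ, le_bot_iff] at h)
  obtain ⟨v, ⟨b, hb, rfl⟩, hne, hmem⟩ := Components.exists_ne_mul_mem hEc hn ⟨a, ha, rfl⟩
  have hnc := Components.noncommute_of_pCore_three hEc.1 ⟨a, ha, rfl⟩ ⟨b, hb, rfl⟩ hne hmem
  have htt := Components.ttNb_eq_of_pCore_three hEc.1 ⟨a, ha, rfl⟩ ⟨b, hb, rfl⟩ hmem
  refine ⟨b, hb, fun h => hnc (hcomm a ha b hb h), fun c hc hac hbc => ?_⟩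
  have key : ∀ u hu w hw, Components.ttNb E (π (e u hu)) = Components.ttNb E (π (e w hw)) →
      ¬ OnLine D x u c → ¬ OnLine D x w c → Commute c u → Commute c w := by
    intro u hu w hw huw hlu hlw hcu
    have hm : π (e c hc) ∈ Components.ttNb E (π (e w hw)) := by
      rw [← huw]
      exact ⟨⟨c, hc, rfl⟩, fun q => hlu (heq u hu c hc q.symm), hcomm u hu c hc hcu.symm⟩
    exact (hlift w hw c hc hlw hm.2.2).symm
  exact ⟨key a ha b hb htt hac hbc, key b hb a ha htt.symm hbc hac⟩

end Cls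

end Cfsg.Agent.H80.TTQuad
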