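import Cfsg.Agent.H80.TTQuad.Iso
import Cfsg.Agent.Unitary.CharTwo
import Cfsg.Agent.Unitary.Simple
import Cfsg.Agent.Unitary.Center
import Cfsg.Agent.Unitary.Order
import Cfsg.Agent.H52.Un.Basic
import Cfsg.Agent.S0144
import Cfsg.Agent.S0439

/-!
`S₆`, `SU₄(2)` and `SU₅(2)` realise the three possible parameters.
-/

set_option autoImplicit false
set_option linter.unusedSectionVars false

namespace Cfsg.Agent.H80.TTQuad

open Cfsg
open H76.LocallyS3 (nb cj cj_cj cj_injective commute_cj_iff)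

universe u v

theorem Param.ncard_eq {G : Type u} [Group G] [Finite G] {D : Set G} {n s : ℕ} (Q : Quad D)
    (P : Param D n s) : (n = 3 ∧ s = 2 ∧ D.ncard = 15) ∨ (n = 3 ∧ s = 4 ∧ D.ncard = 45) ∨
      (n = 9 ∧ s = 4 ∧ D.ncard = 165) := by
  obtain ⟨x, hx⟩ := Q.nonempty
  obtain ⟨a, ha⟩ := Q.nb_nonempty hx
  have h := Q.ncard_D P hx ha
  rcases Q.param_cases P with ⟨rfl, rfl⟩ | ⟨rfl, rfl⟩ | ⟨rfl, rfl⟩ <;> simp [h]

/-- Classes of the same size give isomorphic groups. -/
theorem iso_of_ncard {G : Type u} [Group G] [Finite G] {D : Set G} {G' : Type v} [Group G']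
    [Finite G'] {D' : Set G'} (Q : Quad D) (Q' : Quad D') (h : D.ncard = D'.ncard) :
    Nonempty (G ≃* G') := by
  obtain ⟨n, s, P, -⟩ := Q.exists_param
  obtain ⟨n', s', P', -⟩ := Q'.exists_param
  obtain ⟨rfl, rfl⟩ : n = n' ∧ s = s' := by
    rcases P.ncard_eq Q with ⟨h1, h2, h3⟩ | ⟨h1, h2, h3⟩ | ⟨h1, h2, h3⟩ <;>
      rcases P'.ncard_eq Q' with ⟨k1, k2, k3⟩ | ⟨k1, k2, k3⟩ | ⟨k1, k2, k3⟩ <;> omega
  exact nonempty_iso Q Q' P P'

/-- A class is recognised by the orders of the group and of the class. -/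
theorem quad_of_card {G : Type u} [Group G] [Finite G] {D : Set G} (H : Cls D) {a b N : ℕ}
    (hD : D.ncard = N) (hG : Nat.card G = N * (2 ^ a * 3 ^ b)) (hne : Nat.card G ≠ 120) :
    Quad D := by
  obtain ⟨x, hx⟩ := H.nonempty
  have horb : cjOrb (⊤ : Subgroup G) x = D := by
    refine Set.Subset.antisymm (by rintro _ ⟨g, -, rfl⟩; exact H.mem_cj g hx) fun y hy => ?_
    obtain ⟨g, hg⟩ := H.exists_cj hx hy
    exact ⟨g, Subgroup.mem_top g, hg⟩
  have hmul := card_eq_ncard_mul (⊤ : Subgroup G) x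
  rw [horb, hD, Subgroup.card_top, hG, top_inf_eq] at hmul
  have hN : 0 < N := hD ▸ (Set.ncard_pos (Set.toFinite _)).2 ⟨x, hx⟩
  have hC : Nat.card ↥(Subgroup.centralizer ({x} : Set G)) = 2 ^ a * 3 ^ b :=
    (Nat.eq_of_mul_eq_mul_left hN hmul).symm
  have := S0144.burnside 2 3 Nat.prime_two Nat.prime_three _ _ le_rfl a b hC
  have hle : Subgroup.closure (nb D x) ≤ Subgroup.centralizer ({x} : Set G) := fun k hk =>
    Subgroup.mem_centralizer_singleton_iff.2 (commute_of_mem_closure_nb hk).eq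
  have hs : Group.IsSolvable ↥(Subgroup.closure (nb D x)) :=
    Group.isSolvable_of_isSolvable_injective (Subgroup.inclusion_injective hle)
  rcases H.five_or_quad (H.solvRes hx hs) with ⟨⟨e⟩⟩ | Q
  · exfalso
    rw [Nat.card_congr e.toEquiv, Nat.card_eq_fintype_card, Fintype.card_perm, Fintype.card_fin]
      at hne
    exact hne rfl
  · exact Q

theorem cls_of_simple {G : Type u} [Group G] [Finite G] {D : Set G}
    (hD : Cfsg.IsThreeTranspositionClass D) [IsSimpleGroup G]
    (hc : Subgroup.center G ≠ ⊤) : Cls D := by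
  refine ⟨hD, fun N hN hs => ?_⟩
  rcases hN.eq_bot_or_eq_top with h | h
  · exact h
  exfalso
  apply hc
  subst h
  have : Group.IsSolvable G := Group.isSolvable_of_surjective (f := (⊤ : Subgroup G).subtype)
    fun g => ⟨⟨g, Subgroup.mem_top g⟩, rfl⟩
  have hcomm := IsSimpleGroup.comm_iff_isSolvable.2 (inferInstance : Group.IsSolvable G)
  exact eq_top_iff.2 fun g _ => Subgroup.mem_center_iff.2 fun k => hcomm k g

theorem quad_perm_six :
    Quad {σ : Equiv.Perm (Fin 6) | σ.IsSwap} ∧ {σ : Equiv.Perm (Fin 6) | σ.IsSwap}.ncard = 15 := by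
  have hsol : ∀ N : Subgroup (Equiv.Perm (Fin 6)), N.Normal → Group.IsSolvable ↥N → N = ⊥ := by
    intro N hN hs
    by_contra hne
    have hle := Equiv.Perm.alternatingGroup_le_of_normal (α := Fin 6) (N := N) (by simp)
      ((Subgroup.nontrivial_iff_ne_bot _).2 hne)
    have : Group.IsSolvable ↥(alternatingGroup (Fin 6)) :=
      Group.isSolvable_of_isSolvable_injective (Subgroup.inclusion_injective hle)
    have := alternatingGroup.isSimpleGroup (α := Fin 6) (by simp)
    have hcomm := IsSimpleGroup.comm_iff_isSolvable.2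
      (inferInstance : Group.IsSolvable ↥(alternatingGroup (Fin 6)))
    have h := congrArg (fun σ : alternatingGroup (Fin 6) => (σ : Equiv.Perm (Fin 6)) 0) (hcomm
      ⟨Equiv.swap 0 1 * Equiv.swap 1 2, Equiv.Perm.mem_alternatingGroup.2 (by decide)⟩
      ⟨Equiv.swap 0 3 * Equiv.swap 1 3, Equiv.Perm.mem_alternatingGroup.2 (by decide)⟩)
    revert h
    decide
  have H : Cls {σ : Equiv.Perm (Fin 6) | σ.IsSwap} := ⟨S0439.result 6 (by norm_num), hsol⟩
  have hcard : {σ : Equiv.Perm (Fin 6) | σ.IsSwap}.ncard = 15 := by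
    have himg : {σ : Equiv.Perm (Fin 6) | σ.IsSwap} =
        (fun p : Fin 6 × Fin 6 => Equiv.swap p.1 p.2) '' {p | p.1 < p.2} := by
      ext σ
      constructor
      · rintro ⟨i, j, hij, rfl⟩
        rcases lt_or_gt_of_ne hij with h | h
        exacts [⟨(i, j), h, rfl⟩, ⟨(j, i), h, Equiv.swap_comm _ _⟩]
      · rintro ⟨p, hp, rfl⟩
        exact ⟨p.1, p.2, ne_of_lt hp, rfl⟩
    have key : ∀ i j k l : Fin 6, i < j → k < l → Equiv.swap i j k = l → i = k ∧ j = l := by decide
    have hinj : Set.InjOn (fun p : Fin 6 × Fin 6 => Equiv.swap p.1 p.2) {p | p.1 < p.2} := by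
      intro p hp q hq he
      simp only at he
      have h := key p.1 p.2 q.1 q.2 hp hq (by rw [he, Equiv.swap_apply_left])
      exact Prod.ext h.1 h.2
    rw [himg, hinj.ncard_image, Set.ncard_eq_toFinset_card']
    decide
  refine ⟨quad_of_card H (a := 4) (b := 1) hcard ?_ ?_, hcard⟩ <;>
    rw [Nat.card_eq_fintype_card, Fintype.card_perm, Fintype.card_fin] <;> decide

section unitary

open Cfsg.Agent.Unitary

variable {F : Type} [Field F] [Fintype F] {n : ℕ}

theorem ncard_tv (hF : Fintype.card F = 2 ^ 2) (hn : 4 ≤ n) :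
    {g : SU n F 2 | (mat g - 1).rank = 1}.ncard * 3 = H52.Un.isoN 2 n := by
  classical
  have hcube : ∀ a : F, a ≠ 0 → a * a ^ 2 = 1 := fun a ha => by
    have h := FiniteField.pow_card_sub_one_eq_one a ha
    rw [hF] at h
    rw [← pow_succ']
    exact h
  rw [← H52.Un.card_iso_nonzero hF (n := n) (by omega), Nat.card_eq_fintype_card, Fintype.card_subtype]
  set S := Finset.univ.filter fun x : Fin n → F => x ≠ 0 ∧ hermForm n F 2 x x = 0 with hS
  let φ : (Fin n → F) → SU n F 2 := fun x =>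
    if h : hermForm n F 2 x x = 0 then tv hF h (one_skew_two hF) else 1
  have hφ : ∀ {x : Fin n → F} (h : hermForm n F 2 x x = 0), φ x = tv hF h (one_skew_two hF) :=
    fun h => dif_pos h
  set D := {g : SU n F 2 | (mat g - 1).rank = 1}
  have hmaps : ∀ x ∈ S, φ x ∈ (Set.toFinite D).toFinset := by
    intro x hx
    rw [hS, Finset.mem_filter] at hx
    rw [Set.Finite.mem_toFinset, hφ hx.2.2]
    exact rank_tv_sub_one hF hx.2.2 _ hx.2.1 one_ne_zero
  rw [Finset.card_eq_sum_card_fiberwise (f := φ) hmaps, Finset.sum_const_nat (m := 3) fun g hg => ?_,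
    ← Set.ncard_eq_toFinset_card]
  rw [Set.Finite.mem_toFinset] at hg
  obtain ⟨v, c, hv, hc, hv0, hc0, rfl⟩ := exists_eq_tv_of_isTransvection hF g
    (isTransvection_of_rank_one (g : Matrix.SpecialLinearGroup (Fin n) F).2 hg)
  obtain rfl := eq_one_of_skew_two hF hc hc0
  obtain ⟨z, -, -, hz⟩ := exists_partner hF (nondeg_top hF) Submodule.mem_top hv0 hv
  have himg : (S.filter fun x => φ x = tv hF hv hc) =
      (Finset.univ.filter fun a : F => a ≠ 0).image fun a => a • v := by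
    ext x
    simp only [hS, Finset.mem_filter, Finset.mem_univ, true_and, Finset.mem_image]
    constructor
    · rintro ⟨⟨hx0, hx⟩, he⟩
      rw [hφ hx] at he
      have h := congrArg (fun A => ap A z) he
      simp only [ap_tv, one_mul, hz, one_smul, add_right_inj] at h
      refine ⟨(hermForm n F 2 z x)⁻¹, inv_ne_zero fun h0 => ?_, ?_⟩
      · rw [h0, zero_smul] at h
        exact hv0 h.symm
      · rw [← h, smul_smul, inv_mul_cancel₀, one_smul]
        intro h0
        rw [h0, zero_smul] at h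
        exact hv0 h.symm
    · rintro ⟨a, ha, rfl⟩
      have h' : hermForm n F 2 (a • v) (a • v) = 0 := by rw [herm_self_smul, hv, mul_zero]
      exact ⟨⟨smul_ne_zero ha hv0, h'⟩, (hφ h').trans (tv_smul_two hF hv h' (hcube a ha))⟩
  rw [himg, Finset.card_image_of_injective _ (smul_left_injective F hv0), Finset.filter_ne',
    Finset.card_erase_of_mem (Finset.mem_univ _), Finset.card_univ, hF]
  norm_num

theorem quad_su (hF : Fintype.card F = 2 ^ 2) (hn : n = 4 ∨ n = 5) :
    Nonempty (SU n F 2 ≃* PSU n F 2) ∧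
      ∃ D : Set (SU n F 2), Quad D ∧ D.ncard = (if n = 4 then 45 else 165) := by
  classical
  have hgcd : Nat.gcd n (2 + 1) = 1 := by rcases hn with rfl | rfl <;> rfl
  have hn4 : 4 ≤ n := by rcases hn with rfl | rfl <;> omega
  have hcen : Subgroup.center (SU n F 2) = ⊥ :=
    Subgroup.card_eq_one.1 ((card_center_SU hF (by omega)).trans hgcd)
  have hbij : Function.Bijective (QuotientGroup.mk' (Subgroup.center (SU n F 2))) :=
    ⟨(MonoidHom.ker_eq_bot_iff _).1 (by rw [QuotientGroup.ker_mk', hcen]),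
      QuotientGroup.mk'_surjective _⟩
  let e : SU n F 2 ≃* PSU n F 2 := MulEquiv.ofBijective _ hbij
  refine ⟨⟨e⟩, {g : SU n F 2 | (mat g - 1).rank = 1}, ?_⟩
  have := isSimpleGroup_PSU (n := n) hF (by omega) (by omega)
  have : Nontrivial (SU n F 2) := e.toEquiv.nontrivial
  have : IsSimpleGroup (SU n F 2) := IsSimpleGroup.isSimpleGroup_of_surjective (f := e.symm.toMonoidHom) e.symm.surjective
  have H := cls_of_simple (isThreeTranspositionClass_tv hF hn4) (hcen ▸ bot_ne_top)
  have hD := ncard_tv hF hn4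
  have hG := card_GU_eq_mul_card_SU (n := n) hF (by omega)
  rw [card_GU hF] at hG
  rcases hn with rfl | rfl
  · rw [show H52.Un.isoN 2 4 = 135 by decide] at hD
    rw [show 2 ^ (4 * (4 - 1) / 2) * ∏ i ∈ Finset.range 4, guFactor 2 i = 77760 by decide] at hG
    exact ⟨quad_of_card H (a := 6) (b := 2) (N := 45) (by omega) (by rw [show 45 * (2 ^ 6 * 3 ^ 2) = 25920 by norm_num]; omega) (by omega),
      by rw [if_pos rfl]; omega⟩
  · rw [show H52.Un.isoN 2 5 = 495 by decide] at hD
    rw [show 2 ^ (5 * (5 - 1) / 2) * ∏ i ∈ Finset.range 5, guFactor 2 i = 41057280 by decide] at hG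
    exact ⟨quad_of_card H (a := 10) (b := 4) (N := 165) (by omega) (by rw [show 165 * (2 ^ 10 * 3 ^ 4) = 13685760 by norm_num]; omega) (by omega),
      by rw [if_neg (by norm_num)]; omega⟩

end unitary

/-- A group with lines of at least three points is one of three. -/
theorem quad_classify {G : Type u} [Group G] [Finite G] {D : Set G} (Q : Quad D) :
    Nonempty (G ≃* Equiv.Perm (Fin 6)) ∨ ∃ (F : Type) (_ : Field F) (_ : Fintype F),
      Fintype.card F = 4 ∧ (Nonempty (G ≃* Cfsg.PSU 4 F 2) ∨ Nonempty (G ≃* Cfsg.PSU 5 F 2)) := by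
  obtain ⟨n, s, P, -⟩ := Q.exists_param
  have : Fact (Nat.Prime 2) := ⟨Nat.prime_two⟩
  let _ : Fintype (GaloisField 2 2) := Fintype.ofFinite _
  have hF : Fintype.card (GaloisField 2 2) = 2 ^ 2 := by
    rw [← Nat.card_eq_fintype_card, GaloisField.card 2 2 two_ne_zero]
  rcases P.ncard_eq Q with ⟨-, -, h⟩ | ⟨-, -, h⟩ | ⟨-, -, h⟩
  · exact Or.inl (iso_of_ncard Q quad_perm_six.1 (h.trans quad_perm_six.2.symm))
  · obtain ⟨⟨e⟩, D', Q', h'⟩ := quad_su (F := GaloisField 2 2) (n := 4) hF (Or.inl rfl)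
    obtain ⟨i⟩ := iso_of_ncard Q Q' (by rw [h, h', if_pos rfl])
    exact Or.inr ⟨GaloisField 2 2, inferInstance, inferInstance, hF, Or.inl ⟨i.trans e⟩⟩
  · obtain ⟨⟨e⟩, D', Q', h'⟩ := quad_su (F := GaloisField 2 2) (n := 5) hF (Or.inr rfl)
    obtain ⟨i⟩ := iso_of_ncard Q Q' (by rw [h, h', if_neg (by norm_num)])
    exact Or.inr ⟨GaloisField 2 2, inferInstance, inferInstance, hF, Or.inr ⟨i.trans e⟩⟩

end Cfsg.Agent.H80.TTQuad
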