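import Cfsg.Agent.H80.TTQuad.Link

/-!
The group generated by linked pairs is the graph of an isomorphism: its order is bounded through
the products of commuting pairs and matched by the orbit on the members not commuting with `x`.
-/

set_option autoImplicit false
set_option linter.unusedSectionVars false

namespace Cfsg.Agent.H80.TTQuad

open Cfsg
open H76.LocallyS3 (nb cj cj_cj cj_injective commute_cj_iff)

universe u v

variable {G : Type u} [Group G] {D : Set G} {G' : Type v} [Group G'] {D' : Set G'}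

theorem cj_mul (g p q : G) : cj g (p * q) = cj g p * cj g q := by simp [cj]

/-- A group generated by a central element and a list of involutions commuting up to it. -/
theorem card_closure_list {M : Type*} [Group M] [Finite M] {z : M} (hz : z * z = 1) :
    ∀ l : List M, (∀ w ∈ l, w * w = 1 ∧ Commute w z) →
      (∀ w ∈ l, ∀ v ∈ l, w * v * w = v ∨ w * v * w = v * z) →
      Nat.card ↥(Subgroup.closure (insert z {v | v ∈ l})) ≤ 2 ^ (l.length + 1) := by
  intro l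
  induction l with
  | nil =>
    intro _ _
    have he : (insert z {v | v ∈ ([] : List M)} : Set M) = {z} := by ext; simp
    rw [he, ← Subgroup.zpowers_eq_closure]
    exact H92.TTThree.card_zpowers_le (by norm_num) (by rw [List.length_nil, zero_add, pow_one, pow_two, hz])
  | cons w l ih =>
    intro h1 h2
    have hle : Subgroup.closure (insert z {v | v ∈ w :: l}) ≤
        Subgroup.zpowers w ⊔ Subgroup.closure (insert z {v | v ∈ l}) := by
      rw [Subgroup.closure_le]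
      rintro v (rfl | hv)
      · exact Subgroup.mem_sup_right (Subgroup.subset_closure (Set.mem_insert _ _))
      rcases List.mem_cons.1 hv with rfl | hv
      · exact Subgroup.mem_sup_left (Subgroup.mem_zpowers _)
      · exact Subgroup.mem_sup_right (Subgroup.subset_closure (Set.mem_insert_of_mem _ hv))
    obtain ⟨hw, hwz⟩ := h1 w List.mem_cons_self
    refine (Subgroup.card_le_of_le hle).trans ((H92.TTThree.card_sup_le _ _ ?_).trans ?_)
    · rw [Subgroup.zpowers_le]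
      refine H92.TTThree.mem_normalizer_closure hw ?_
      rintro v (rfl | hv)
      · rw [hwz.eq, mul_assoc, hw, mul_one]
        exact Subgroup.subset_closure (Set.mem_insert _ _)
      · have hvm := Subgroup.subset_closure (k := insert z {v | v ∈ l}) (Set.mem_insert_of_mem z hv)
        rcases h2 w List.mem_cons_self v (List.mem_cons_of_mem _ hv) with h | h <;> rw [h]
        exacts [hvm, mul_mem hvm (Subgroup.subset_closure (Set.mem_insert _ _))]
    · have hi := ih (fun v hv => h1 v (List.mem_cons_of_mem _ hv))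
        fun v hv u hu => h2 v (List.mem_cons_of_mem _ hv) u (List.mem_cons_of_mem _ hu)
      refine (Nat.mul_le_mul (H92.TTThree.card_zpowers_le (n := 2) (by norm_num)
        (by rw [pow_two, hw])) hi).trans ?_
      rw [List.length_cons, pow_succ' 2 (l.length + 1)]

namespace Quad

variable [Finite G] (Q : Quad D)
include Q

/-- Five distinct points of a line multiply to `1`. -/
theorem prod_five {n s : ℕ} (P : Param D n s) (hs : s ≤ 4) {x b₁ b₂ b₃ b₄ : G} (hx : x ∈ D)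
    (h₁ : b₁ ∈ nb D x) (h₂ : b₂ ∈ B D x b₁) (h₃ : b₃ ∈ B D x b₁) (h₄ : b₄ ∈ B D x b₁)
    (n2 : b₂ ≠ x) (n3 : b₃ ≠ x) (n4 : b₄ ≠ x) (n12 : b₁ ≠ b₂) (n13 : b₁ ≠ b₃) (n14 : b₁ ≠ b₄)
    (n23 : b₂ ≠ b₃) (n24 : b₂ ≠ b₄) (n34 : b₃ ≠ b₄) : x * (b₁ * b₂ * (b₃ * b₄)) = 1 := by
  have hsub : ({x, b₁, b₂, b₃, b₄} : Set G) ⊆ B D x b₁ := by
    rintro w (rfl | rfl | rfl | rfl | rfl)
    exacts [Q.left_mem_B hx h₁, Q.right_mem_B h₁, h₂, h₃, h₄]
  have h5 : ({x, b₁, b₂, b₃, b₄} : Set G).ncard = 5 := by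
    rw [Set.ncard_insert_of_notMem (by simp [h₁.2.1.symm, n2.symm, n3.symm, n4.symm]) (Set.toFinite _),
      Set.ncard_insert_of_notMem (by simp [n12, n13, n14]) (Set.toFinite _),
      Set.ncard_eq_three.2 ⟨b₂, b₃, b₄, n23, n24, n34, rfl⟩]
  have hc := P.line x hx b₁ h₁
  have heq := Set.eq_of_subset_of_ncard_le hsub (by omega) (Set.toFinite _)
  exact Q.five_prod hx h₁ heq.symm (by rw [← heq, h5])

/-- The points collinear with `f` that do not commute with `x`. -/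
theorem exists_near {x f g : G} (hx : x ∈ D) (hf : f ∈ far D x) (hg : g ∈ nb D f)
    (hgx : ¬ Commute x g) : ∃ c ∈ nb D x, cj (c * x) f = g := by
  obtain ⟨t, ht, hfgt⟩ : ∃ t ∈ B D f g, Commute x t := Q.exists_trace hf.1 hg hx
  have htf : t ∈ nb D f := ⟨ht.1, fun e => hf.2 (e ▸ hfgt), ht.2.1.symm⟩
  have htx : t ≠ x := fun e => hf.2 (e ▸ ht.2.1)
  have hxt : x ∈ nb D t := ⟨hx, htx.symm, hfgt.symm⟩
  have hft : f ∈ nb D t := nb_symm hf.1 htf
  have hgt : g ∈ nb D t := ⟨hg.1, fun e => hgx (e ▸ hfgt), ht.2.2⟩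
  obtain ⟨c, hc, hcx, hce⟩ := Q.exists_translate ht.1 hft hxt hgt hg.2.2 fun h => hf.2 h.symm
  refine ⟨c, ⟨hc.1, fun e => ?_, hcx.symm⟩, hce⟩
  rw [e, Q.sq hx, cj_one] at hce
  exact hg.2.1 hce.symm

theorem orbit_far {n s : ℕ} (P : Param D n s) (hn : n = 3 ∨ (n = 9 ∧ s = 4)) {x f : G}
    (hx : x ∈ D) (hf : f ∈ far D x) :
    cjOrb (Subgroup.closure (insert x (nb D x))) f = far D x := by
  set X := Subgroup.closure (insert x (nb D x)) with hX
  have hXx : ∀ g ∈ X, Commute g x := fun g hg =>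
    Subgroup.closure_induction (fun z hz => by
      rcases hz with rfl | hz
      exacts [Commute.refl _, hz.2.2.symm]) (Commute.one_left x)
      (fun _ _ _ _ h h' => h.mul_left h') (fun _ _ h => h.inv_left) hg
  have hfarcj : ∀ g ∈ X, ∀ {w}, w ∈ far D x → cj g w ∈ far D x := fun g hg w hw =>
    ⟨Q.mem_cj g hw.1, fun h => hw.2 (by
      rw [← cj_eq_of_commute (hXx g hg)] at h
      exact commute_cj_iff.1 h)⟩
  refine Set.Subset.antisymm (by rintro _ ⟨g, hg, rfl⟩; exact hfarcj g hg hf) fun q hq => ?_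
  -- the orbit contains the far points collinear with its members
  have hstep : ∀ w ∈ cjOrb X f, ∀ g ∈ nb D w, ¬ Commute x g → g ∈ cjOrb X f := by
    rintro _ ⟨k, hk, rfl⟩ g hg hgx
    obtain ⟨c, hc, hce⟩ := Q.exists_near hx (hfarcj k hk hf) hg hgx
    refine ⟨c * x * k, mul_mem (mul_mem (Subgroup.subset_closure (Or.inr hc))
      (Subgroup.subset_closure (Or.inl rfl))) hk, ?_⟩
    rw [← cj_cj, hce]
  have hfO : f ∈ cjOrb X f := ⟨1, one_mem _, cj_one f⟩
  by_cases hfq : Commute f q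
  · by_cases e : q = f
    · exact e ▸ hfO
    · exact hstep f hfO q ⟨hq.1, e, hfq⟩ hq.2
  by_cases hall : ∀ w ∈ T D f q, Commute x w
  · have hsub : T D f q ⊆ T D x f := fun w hw =>
      mem_T_of_commute hf.2 hw.1.1 (hall w hw) hw.1.2.2
    have heq : T D f q = T D x f := Set.eq_of_subset_of_ncard_le hsub (by
      rw [P.perp x hx f hf, P.perp f hf.1 q ⟨hq.1, hfq⟩]) (Set.toFinite _)
    rcases Q.common_perp P hx hf hn hq.1 (fun t ht => (heq.symm ▸ ht : t ∈ T D f q).2.2.2) with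
      h | h | h
    · exact absurd (h ▸ Commute.refl x) hq.2
    · exact h ▸ hfO
    · exact h ▸ ⟨x, Subgroup.subset_closure (Or.inl rfl), rfl⟩
  · push Not at hall
    obtain ⟨w, hw, hxw⟩ := hall
    exact hstep w (hstep f hfO w hw.1 hxw) q (nb_symm hq.1 hw.2) hq.2

end Quad

namespace Link

variable [Finite G] [Finite G'] {n s : ℕ} {x f : G} {x' f' : G'} {Θ : Set (G × G')}
  (L : Link D D' n s x f x' f' Θ)
include L

theorem commute_xi {p : G × G'} (hp : p ∈ Θ) : Commute (x, x') p :=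
  Prod.ext (L.mem p hp).2.2.eq (L.mem' p hp).2.2.eq

theorem twin_sq {p q : G × G'} (hp : p ∈ Θ) (hq : q ∈ Θ) (h : Commute p.1 q.1) :
    p * q * (p * q) = 1 := by
  have hc := L.commute_pair hp hq h
  rw [mul_assoc, ← mul_assoc q, ← hc.eq, mul_assoc p, L.sq_pair hq, mul_one, L.sq_pair hp]

/-- Two products of commuting pairs commute up to `(x, x')`. -/
theorem twin_comm {p₁ p₂ q₁ q₂ : G × G'} (h₁ : p₁ ∈ Θ) (h₂ : p₂ ∈ Θ) (k₁ : q₁ ∈ Θ) (k₂ : q₂ ∈ Θ)
    (hp : Commute p₁.1 p₂.1) (hq : Commute q₁.1 q₂.1) :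
    p₁ * p₂ * (q₁ * q₂) * (p₁ * p₂) = q₁ * q₂ ∨
      p₁ * p₂ * (q₁ * q₂) * (p₁ * p₂) = q₁ * q₂ * (x, x') := by
  have Q := L.quad
  have Q' := L.quad'
  have hx := L.hx
  have hpp := L.twin_sq h₁ h₂ hp
  set u := p₁ * p₂ with hu
  have hui : u⁻¹ = u := inv_eq_of_mul_eq_one_right hpp
  have hconj : u * (q₁ * q₂) * u = cj u q₁ * cj u q₂ := by
    rw [← cj_mul, cj, hui]
  rw [hconj]
  by_cases hpq : Commute p₁.1 q₁.1
  · left
    have h21 : Commute p₂.1 q₁.1 := Q.comm_trans hx (L.mem _ h₂) (L.mem _ h₁) (L.mem _ k₁) hp.symm hpq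
    have h12 : Commute p₁.1 q₂.1 := Q.comm_trans hx (L.mem _ h₁) (L.mem _ k₁) (L.mem _ k₂) hpq hq
    have h22 : Commute p₂.1 q₂.1 := Q.comm_trans hx (L.mem _ h₂) (L.mem _ k₁) (L.mem _ k₂) h21 hq
    rw [cj_eq_of_commute ((L.commute_pair h₁ k₁ hpq).mul_left (L.commute_pair h₂ k₁ h21)),
      cj_eq_of_commute ((L.commute_pair h₁ k₂ h12).mul_left (L.commute_pair h₂ k₂ h22))]
  by_cases hpe : p₁.1 = p₂.1
  · left
    have he : u = 1 := by rw [hu, L.ext h₁ h₂ hpe, L.sq_pair h₂]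
    rw [he, cj_one, cj_one]
  have m₁ : cj u q₁ ∈ Θ := by rw [hu, ← cj_cj]; exact L.cj_mem h₁ (L.cj_mem h₂ k₁)
  have m₂ : cj u q₂ ∈ Θ := by rw [hu, ← cj_cj]; exact L.cj_mem h₁ (L.cj_mem h₂ k₂)
  by_cases hqe : q₁.1 = q₂.1
  · left
    rw [L.ext k₁ k₂ hqe, L.sq_pair k₂, ← cj_mul, L.sq_pair k₂]
    simp [cj]
  have hn1 : ¬ Commute q₁.1 p₁.1 := fun h => hpq h.symm
  have hn2 : ¬ Commute q₂.1 p₁.1 := fun h =>
    hn1 (Q.comm_trans hx (L.mem _ k₁) (L.mem _ k₂) (L.mem _ h₁) hq h)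
  obtain ⟨a1, a2, a3⟩ := Q.pair_move hx (L.mem _ k₁) (L.mem _ h₁) (L.mem _ h₂) hp hn1
  obtain ⟨b1, b2, b3⟩ := Q.pair_move hx (L.mem _ k₂) (L.mem _ h₁) (L.mem _ h₂) hp hn2
  by_cases hswap : cj (p₁.1 * p₂.1) q₁.1 = q₂.1
  · left
    have e1 : cj u q₁ = q₂ := L.ext m₁ k₂ hswap
    have e2 : cj u q₂ = q₁ := by rw [← e1, cj_mul_self hpp]
    rw [e1, e2]
    exact (L.commute_pair k₂ k₁ hq.symm).eq
  right
  set r₁ := cj u q₁ with hr₁
  set r₂ := cj u q₂ with hr₂
  have c1 : Commute r₁.1 q₁.1 := (show Commute q₁.1 r₁.1 from a2).symm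
  have c2 : Commute r₂.1 q₁.1 :=
    Q.comm_trans hx (L.mem _ m₂) (L.mem _ k₂) (L.mem _ k₁) (show Commute q₂.1 r₂.1 from b2).symm
      hq.symm
  have hs : s ≤ 4 := by rcases L.cases with h | h | h <;> omega
  have d13 : q₁.1 ≠ r₁.1 := fun e => hpe (a3 e.symm)
  have d24 : q₂.1 ≠ r₂.1 := fun e => hpe (b3 e.symm)
  have d23 : q₂.1 ≠ r₁.1 := fun e => hswap e.symm
  have d14 : q₁.1 ≠ r₂.1 := fun e => hswap (by
    have h : cj (p₁.1 * p₂.1) q₁.1 = cj (p₁.1 * p₂.1) (cj (p₁.1 * p₂.1) q₂.1) := congrArg _ e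
    rwa [cj_mul_self (show p₁.1 * p₂.1 * (p₁.1 * p₂.1) = 1 from congrArg Prod.fst hpp)] at h)
  have d34 : r₁.1 ≠ r₂.1 := fun e => hqe (cj_injective _ e)
  have e1 := Q.prod_five L.par hs hx (L.mem _ k₁)
    (b₂ := q₂.1) (b₃ := r₁.1) (b₄ := r₂.1) ⟨(L.mem _ k₂).1, (L.mem _ k₂).2.2.symm, hq.symm⟩
    ⟨(L.mem _ m₁).1, (L.mem _ m₁).2.2.symm, c1⟩ ⟨(L.mem _ m₂).1, (L.mem _ m₂).2.2.symm, c2⟩
    (L.mem _ k₂).2.1 (L.mem _ m₁).2.1 (L.mem _ m₂).2.1 hqe d13 d14 d23 d24 d34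
  have e2 := Q'.prod_five L.par' hs L.symm.hx (L.mem' _ k₁)
    (b₂ := q₂.2) (b₃ := r₁.2) (b₄ := r₂.2)
    ⟨(L.mem' _ k₂).1, (L.mem' _ k₂).2.2.symm, (L.comm _ k₂ _ k₁).1 hq.symm⟩
    ⟨(L.mem' _ m₁).1, (L.mem' _ m₁).2.2.symm, (L.comm _ m₁ _ k₁).1 c1⟩
    ⟨(L.mem' _ m₂).1, (L.mem' _ m₂).2.2.symm, (L.comm _ m₂ _ k₁).1 c2⟩
    (L.mem' _ k₂).2.1 (L.mem' _ m₁).2.1 (L.mem' _ m₂).2.1 (fun e => hqe (L.inj' _ k₁ _ k₂ e))
    (fun e => d13 (L.inj' _ k₁ _ m₁ e)) (fun e => d14 (L.inj' _ k₁ _ m₂ e))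
    (fun e => d23 (L.inj' _ k₂ _ m₁ e)) (fun e => d24 (L.inj' _ k₂ _ m₂ e))
    (fun e => d34 (L.inj' _ m₁ _ m₂ e))
  have e : (x, x') * (q₁ * q₂ * (r₁ * r₂)) = 1 := Prod.ext e1 e2
  have hxi : (x, x') * (x, x') = 1 := Prod.ext (Q.sq hx) (Q'.sq L.symm.hx)
  have h3 : r₁ * r₂ = (q₁ * q₂)⁻¹ * (x, x')⁻¹ := by
    rw [← mul_inv_rev, eq_inv_iff_mul_eq_one]
    have := (commute_iff_eq _ _).1
      (show Commute ((x, x') * (q₁ * q₂)) (r₁ * r₂) from
        ((L.commute_xi m₁).mul_right (L.commute_xi m₂)).mul_left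
          (((L.commute_pair k₁ m₁ c1.symm).mul_right (L.commute_pair k₁ m₂ c2.symm)).mul_left
            ((L.commute_pair k₂ m₁ (Q.comm_trans hx (L.mem _ k₂) (L.mem _ k₁) (L.mem _ m₁) hq.symm
              c1.symm)).mul_right (L.commute_pair k₂ m₂ (show Commute q₂.1 r₂.1 from b2)))))
    rw [← this, mul_assoc, e]
  rw [h3, inv_eq_of_mul_eq_one_right (L.twin_sq k₁ k₂ hq), inv_eq_of_mul_eq_one_right hxi]

/-- Few products generate the products on one line. -/
theorem exists_line_gens {t : G × G'} (ht : t ∈ Θ) :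
    ∃ l : List (G × G'), l.length ≤ s / 2 ∧
      (∀ w ∈ l, ∃ p ∈ Θ, ∃ q ∈ Θ, Commute p.1 q.1 ∧ w = p * q) ∧
      ∀ y ∈ Θ, Commute y.1 t.1 → t * y ∈ Subgroup.closure (insert (x, x') {v | v ∈ l}) := by
  have Q := L.quad
  have hx := L.hx
  have htn := L.mem _ ht
  obtain ⟨w₁, hw₁, hw₁x, hw₁t⟩ := Q.big x hx t.1 htn
  obtain ⟨z₁, hz₁⟩ := L.total w₁ (Q.mem_nb_of_mem_B hw₁ hw₁x)
  have hc1 : Commute t.1 w₁ := hw₁.2.2.symm
  have hsplit : s = 2 ∨ s = 4 := by rcases L.cases with h | h | h <;> omega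
  rcases hsplit with rfl | rfl
  · refine ⟨[t * (w₁, z₁)], by simp, fun w hw => ?_, fun y hy hyt => ?_⟩
    · rw [List.mem_singleton] at hw
      exact ⟨t, ht, _, hz₁, hc1, hw⟩
    · by_cases hyt' : y.1 = t.1
      · rw [L.ext hy ht hyt', L.sq_pair ht]; exact one_mem _
      by_cases hyw : y.1 = w₁
      · rw [L.ext hy hz₁ hyw]
        exact Subgroup.subset_closure (Or.inr List.mem_cons_self)
      · exfalso
        have hsub : ({x, t.1, w₁, y.1} : Set G) ⊆ B D x t.1 := by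
          rintro v (rfl | rfl | rfl | rfl)
          exacts [Q.left_mem_B hx htn, Q.right_mem_B htn, hw₁,
            ⟨(L.mem _ hy).1, (L.mem _ hy).2.2.symm, hyt⟩]
        have hle := Set.ncard_le_ncard hsub (Set.toFinite _)
        rw [L.par.line x hx _ htn, Set.ncard_insert_of_notMem
            (by simp [htn.2.1.symm, hw₁x.symm, (L.mem _ hy).2.1.symm]) (Set.toFinite _),
          Set.ncard_eq_three.2 ⟨t.1, w₁, y.1, hw₁t.symm, fun e => hyt' e.symm, fun e => hyw e.symm, rfl⟩]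
          at hle
        omega
  · obtain ⟨w₂, hw₂, hw₂n⟩ : ∃ w ∈ B D x t.1, w ∉ ({x, t.1, w₁} : Set G) := by
      by_contra hall
      push Not at hall
      have hle := Set.ncard_le_ncard hall (Set.toFinite _)
      rw [L.par.line x hx _ htn, Set.ncard_eq_three.2
        ⟨x, t.1, w₁, htn.2.1.symm, hw₁x.symm, hw₁t.symm, rfl⟩] at hle
      omega
    simp only [Set.mem_insert_iff, Set.mem_singleton_iff, not_or] at hw₂n
    obtain ⟨hw₂x, hw₂t, hw₂₁⟩ := hw₂n
    obtain ⟨z₂, hz₂⟩ := L.total w₂ (Q.mem_nb_of_mem_B hw₂ hw₂x)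
    have hc2 : Commute t.1 w₂ := hw₂.2.2.symm
    refine ⟨[t * (w₁, z₁), t * (w₂, z₂)], by simp, fun w hw => ?_, fun y hy hyt => ?_⟩
    · rcases List.mem_pair.1 hw with rfl | rfl
      exacts [⟨t, ht, _, hz₁, hc1, rfl⟩, ⟨t, ht, _, hz₂, hc2, rfl⟩]
    · have g1 : t * (w₁, z₁) ∈ Subgroup.closure
          (insert (x, x') {v | v ∈ [t * (w₁, z₁), t * (w₂, z₂)]}) :=
        Subgroup.subset_closure (Or.inr (by simp))
      have g2 : t * (w₂, z₂) ∈ Subgroup.closure
          (insert (x, x') {v | v ∈ [t * (w₁, z₁), t * (w₂, z₂)]}) :=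
        Subgroup.subset_closure (Or.inr (by simp))
      have gx : (x, x') ∈ Subgroup.closure
          (insert (x, x') {v | v ∈ [t * (w₁, z₁), t * (w₂, z₂)]}) :=
        Subgroup.subset_closure (Set.mem_insert _ _)
      by_cases hyt' : y.1 = t.1
      · rw [L.ext hy ht hyt', L.sq_pair ht]; exact one_mem _
      by_cases hy1 : y.1 = w₁
      · rw [L.ext hy hz₁ hy1]; exact g1
      by_cases hy2 : y.1 = w₂
      · rw [L.ext hy hz₂ hy2]; exact g2
      have hy' := L.mem' _ hy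
      have e1 := Q.prod_five L.par le_rfl hx htn (b₂ := w₁) (b₃ := w₂) (b₄ := y.1) hw₁ hw₂
        ⟨(L.mem _ hy).1, (L.mem _ hy).2.2.symm, hyt⟩ hw₁x hw₂x (L.mem _ hy).2.1 hw₁t.symm
        (Ne.symm hw₂t) (Ne.symm hyt') (Ne.symm hw₂₁) (Ne.symm hy1) (Ne.symm hy2)
      have e2 := L.quad'.prod_five L.par' le_rfl L.symm.hx (L.mem' _ ht) (b₂ := z₁) (b₃ := z₂)
        (b₄ := y.2) ⟨(L.mem' _ hz₁).1, (L.mem' _ hz₁).2.2.symm, (L.comm _ hz₁ _ ht).1 hw₁.2.2⟩
        ⟨(L.mem' _ hz₂).1, (L.mem' _ hz₂).2.2.symm, (L.comm _ hz₂ _ ht).1 hw₂.2.2⟩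
        ⟨hy'.1, hy'.2.2.symm, (L.comm _ hy _ ht).1 hyt⟩ (L.mem' _ hz₁).2.1 (L.mem' _ hz₂).2.1
        hy'.2.1 (fun e => hw₁t (L.inj' _ ht _ hz₁ e).symm) (fun e => hw₂t (L.inj' _ ht _ hz₂ e).symm)
        (fun e => hyt' (L.inj' _ ht _ hy e).symm) (fun e => hw₂₁ (L.inj' _ hz₁ _ hz₂ e).symm)
        (fun e => hy1 (L.inj' _ hz₁ _ hy e).symm) (fun e => hy2 (L.inj' _ hz₂ _ hy e).symm)
      have e : (x, x') * (t * (w₁, z₁) * ((w₂, z₂) * y)) = 1 := Prod.ext e1 e2
      have hy3 : y = (w₂, z₂) * (w₁, z₁) * t * (x, x')⁻¹ := by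
        have h : t * (w₁, z₁) * ((w₂, z₂) * y) = (x, x')⁻¹ := eq_inv_of_mul_eq_one_right e
        rw [← h]
        calc y = (w₂, z₂) * ((w₁, z₁) * ((t * t) * ((w₁, z₁) * ((w₂, z₂) * y)))) := by
              rw [L.sq_pair ht, one_mul, ← mul_assoc (w₁, z₁) (w₁, z₁), L.sq_pair hz₁, one_mul,
                ← mul_assoc, L.sq_pair hz₂, one_mul]
          _ = _ := by simp only [mul_assoc]
      rw [hy3, show t * ((w₂, z₂) * (w₁, z₁) * t * (x, x')⁻¹) =
          t * (w₂, z₂) * ((w₁, z₁) * t) * (x, x')⁻¹ by simp only [mul_assoc],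
        ← (L.commute_pair ht hz₁ hc1).eq]
      exact mul_mem (mul_mem g2 g1) (inv_mem gx)

/-- The order of the group generated by the linked pairs. -/
theorem card_linked_le :
    Nat.card ↥(Subgroup.closure (insert (x, x') Θ)) ≤ (n - 1) * (s * s) * (2 * n * (n / 3)) := by
  obtain ⟨a, b, d, R, F⟩ := L.frame
  have Q := L.quad
  obtain ⟨a', ha⟩ := L.total a F.ha.1
  obtain ⟨b', hb⟩ := L.total b F.hb.1
  obtain ⟨d', hd⟩ := L.total d F.hd.1
  obtain ⟨la, la1, la2, la3⟩ := L.exists_line_gens ha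
  obtain ⟨lb, lb1, lb2, lb3⟩ := L.exists_line_gens hb
  obtain ⟨ld, ld1, ld2, ld3⟩ := L.exists_line_gens hd
  set l := if n = 3 then la ++ lb else la ++ lb ++ ld with hl
  have hlen : 2 ^ (l.length + 1) ≤ (n - 1) * (s * s) := by
    have key : ∀ k, l.length + 1 ≤ k → 2 ^ k = (n - 1) * (s * s) → 2 ^ (l.length + 1) ≤
        (n - 1) * (s * s) := fun k hk he => he ▸ Nat.pow_le_pow_right (by norm_num) hk
    rcases L.cases with ⟨rfl, rfl⟩ | ⟨rfl, rfl⟩ | ⟨rfl, rfl⟩
    · refine key 3 ?_ (by norm_num)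
      rw [hl, if_pos rfl, List.length_append]; omega
    · refine key 5 ?_ (by norm_num)
      rw [hl, if_pos rfl, List.length_append]; omega
    · refine key 7 ?_ (by norm_num)
      rw [hl, if_neg (by norm_num), List.length_append, List.length_append]; omega
  have hlt : ∀ w ∈ l, ∃ p ∈ Θ, ∃ q ∈ Θ, Commute p.1 q.1 ∧ w = p * q := by
    intro w hw
    rw [hl] at hw
    split at hw
    · rcases List.mem_append.1 hw with h | h
      exacts [la2 w h, lb2 w h]
    · rcases List.mem_append.1 hw with h | h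
      · rcases List.mem_append.1 h with h | h
        exacts [la2 w h, lb2 w h]
      · exact ld2 w h
  set N := Subgroup.closure (insert (x, x') {v | v ∈ l}) with hN
  have hNcard : Nat.card N ≤ (n - 1) * (s * s) := by
    refine le_trans (card_closure_list (Prod.ext (Q.sq L.hx) (L.quad'.sq L.symm.hx)) l ?_ ?_) hlen
    · intro w hw
      obtain ⟨p, hp, q, hq, hc, rfl⟩ := hlt w hw
      exact ⟨L.twin_sq hp hq hc, ((L.commute_xi hp).mul_right (L.commute_xi hq)).symm⟩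
    · intro w hw v hv
      obtain ⟨p, hp, q, hq, hc, rfl⟩ := hlt w hw
      obtain ⟨p', hp', q', hq', hc', rfl⟩ := hlt v hv
      exact L.twin_comm hp hq hp' hq' hc hc'
  -- the lines whose products lie in `N`
  set W : Set G := {t | t ∈ T D x f ∧ ∃ t', (t, t') ∈ Θ ∧
    ∀ y ∈ Θ, Commute y.1 t → (t, t') * y ∈ N} with hW
  have hpairN : ∀ {t}, t ∈ W → ∀ p ∈ Θ, ∀ q ∈ Θ, Commute p.1 t → Commute q.1 t → p * q ∈ N := by
    rintro t ⟨-, t', ht, hgood⟩ p hp q hq hpt hqt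
    have h1 := mul_mem (hgood p hp hpt) (hgood q hq hqt)
    rwa [← (L.commute_pair hp ht hpt).eq, mul_assoc, ← mul_assoc (t, t'), L.sq_pair ht, one_mul]
      at h1
  have hWcl : ∀ u ∈ W, ∀ v ∈ W, cj u v ∈ W := by
    intro u hu v hv
    have huT := hu.1
    obtain ⟨u', huΘ, -⟩ := hu.2
    obtain ⟨v', hvΘ, hvgood⟩ := hv.2
    by_cases huv : Commute u v
    · rwa [cj_eq_of_commute huv]
    refine ⟨Q.T_cj huT hv.1, _, L.equiv _ huΘ huT _ hvΘ, fun y hy hyc => ?_⟩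
    change cj (u, u') (v, v') * y ∈ N
    set w := (v, v') * cj (u, u') y with hw
    have hy0 : cj (u, u') y ∈ Θ := L.equiv _ huΘ huT _ hy
    have hy0v : Commute (cj (u, u') y).1 v := by
      have h := (commute_cj_iff (g := u)).2 hyc
      rwa [Q.cj_invol huT.1.1] at h
    have hwN : w ∈ N := hvgood _ hy0 hy0v
    have hww : w * w = 1 := L.twin_sq hvΘ hy0 hy0v.symm
    have hiu := L.inv_pair huΘ
    have he : cj (u, u') (v, v') * y = (u, u') * w * (u, u') := by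
      rw [hw]
      simp only [cj, hiu, mul_assoc]
      rw [L.sq_pair huΘ, mul_one]
    rw [he]
    have hwu : cj w (u, u') ∈ Θ := by rw [hw, ← cj_cj]; exact L.cj_mem hvΘ (L.cj_mem hy0 huΘ)
    have hcu : Commute (cj w (u, u')).1 u :=
      (Q.pair_move L.hx (L.mem _ huΘ) (L.mem _ hvΘ) (L.mem _ hy0) hy0v.symm huv).2.1.symm
    have h1 : (u, u') * cj w (u, u') ∈ N :=
      hpairN hu _ huΘ _ hwu (Commute.refl u) hcu
    have h2 : (u, u') * w * (u, u') = (u, u') * cj w (u, u') * w := by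
      simp only [cj, inv_eq_of_mul_eq_one_right hww, mul_assoc, hww, mul_one]
    rw [h2]
    exact mul_mem h1 hwN
  have hmono : ∀ {l' : List (G × G')}, (∀ w ∈ l', w ∈ l) →
      Subgroup.closure (insert (x, x') {v | v ∈ l'}) ≤ N := fun h =>
    Subgroup.closure_mono (Set.insert_subset_insert fun w hw => h w hw)
  have haW : a ∈ W := ⟨F.ha, a', ha, fun y hy hya => hmono (fun w hw => by
    rw [hl]; split <;> simp [hw]) (la3 y hy hya)⟩
  have hbW : b ∈ W := ⟨F.hb, b', hb, fun y hy hyb => hmono (fun w hw => by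
    rw [hl]; split <;> simp [hw]) (lb3 y hy hyb)⟩
  have hdW : d ∈ W := by
    by_cases h3 : n = 3
    · exact F.hda h3 ▸ haW
    · exact ⟨F.hd, d', hd, fun y hy hyd => hmono (fun w hw => by
        rw [hl, if_neg h3]; simp [hw]) (ld3 y hy hyd)⟩
  have hWall : W = T D x f := F.gen W (fun t ht => ht.1) hWcl haW hbW hdW
  have htwin : ∀ p ∈ Θ, ∀ q ∈ Θ, Commute p.1 q.1 → p * q ∈ N := by
    intro p hp q hq hpq
    obtain ⟨t, ht, htT, hpt⟩ := L.exists_trace hp
    exact hpairN (hWall.symm ▸ htT) p hp q hq hpt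
      (Q.comm_trans L.hx (L.mem _ hq) (L.mem _ hp) (L.mem _ ht) hpq.symm hpt)
  -- the complement
  set K := Subgroup.closure {p : G × G' | p ∈ Θ ∧ p.1 ∈ T D x f} with hK
  have hKN : K ≤ Subgroup.normalizer (N : Set (G × G')) := by
    refine (Subgroup.closure_le _).2 ?_
    rintro t ⟨ht, htT⟩
    refine H92.TTThree.mem_normalizer_closure (L.sq_pair ht) ?_
    rintro w (rfl | hw)
    · rw [(L.commute_xi ht).symm.eq, mul_assoc, L.sq_pair ht, mul_one]
      exact Subgroup.subset_closure (Set.mem_insert _ _)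
    · obtain ⟨p, hp, q, hq, hc, rfl⟩ := hlt w hw
      rw [show t * (p * q) * t = cj t p * cj t q by rw [← cj_mul, cj, L.inv_pair ht]]
      exact htwin _ (L.equiv t ht htT p hp) _ (L.equiv t ht htT q hq) (commute_cj_iff.2 hc)
  have hle : Subgroup.closure (insert (x, x') Θ) ≤ K ⊔ N := by
    refine (Subgroup.closure_le _).2 ?_
    rintro p (rfl | hp)
    · exact Subgroup.mem_sup_right (Subgroup.subset_closure (Set.mem_insert _ _))
    · obtain ⟨t, ht, htT, hpt⟩ := L.exists_trace hp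
      rw [SetLike.mem_coe, show p = t * (t * p) by rw [← mul_assoc, L.sq_pair ht, one_mul]]
      exact Subgroup.mul_mem_sup (Subgroup.subset_closure ⟨ht, htT⟩) (htwin t ht p hp hpt.symm)
  have hKcard : Nat.card K ≤ 2 * n * (n / 3) := by
    have hmap : K.map (MonoidHom.fst G G') ≤ Subgroup.closure (T D x f) := by
      rw [hK, MonoidHom.map_closure, Subgroup.closure_le]
      rintro _ ⟨p, hp, rfl⟩
      exact Subgroup.subset_closure hp.2
    rw [← F.card]
    refine Nat.card_le_card_of_injective (fun k : K => (⟨(k : G × G').1, hmap ⟨k, k.2, rfl⟩⟩ :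
      Subgroup.closure (T D x f))) fun k k' h => ?_
    have h1 : (k : G × G').1 = (k' : G × G').1 := congrArg Subtype.val h
    have h2 := (L.graph _ (mul_mem (inv_mem k.2) k'.2)).1 (by
      show (k : G × G').1⁻¹ * (k' : G × G').1 = 1
      rw [h1, inv_mul_cancel])
    exact Subtype.ext (Prod.ext h1 (inv_mul_eq_one.1 h2))
  refine (Subgroup.card_le_of_le hle).trans ((H92.TTThree.card_sup_le _ _ hKN).trans ?_)
  rw [mul_comm]
  exact Nat.mul_le_mul hNcard hKcard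

/-- The first projection of the group of linked pairs is injective, and only linked elements of
`⟨T⟩` fix `f`. -/
theorem linked_props :
    (∀ p ∈ Subgroup.closure (insert (x, x') Θ), p.1 = 1 → p.2 = 1) ∧
    ∀ g ∈ Subgroup.closure (insert x (nb D x)), cj g f = f → g ∈ Subgroup.closure (T D x f) := by
  obtain ⟨a, b, d, R, F⟩ := L.frame
  have Q := L.quad
  have hx := L.hx
  set X := Subgroup.closure (insert x (nb D x)) with hX
  set Δ := Subgroup.closure (insert (x, x') Θ) with hΔ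
  set K := Subgroup.closure (T D x f) with hK
  have hmap : Δ.map (MonoidHom.fst G G') = X := by
    rw [hΔ, MonoidHom.map_closure, Set.image_insert_eq, hX]
    congr 2
    refine Set.Subset.antisymm (by rintro _ ⟨p, hp, rfl⟩; exact L.mem p hp) fun y hy => ?_
    obtain ⟨y', hy'⟩ := L.total y hy
    exact ⟨(y, y'), hy', rfl⟩
  have hKle : K ≤ X ⊓ Subgroup.centralizer ({f} : Set G) := le_inf
    (Subgroup.closure_mono fun t ht => Or.inr ht.1) fun k hk =>
      Subgroup.mem_centralizer_singleton_iff.2 (Q.commute_of_mem_closure_T hk).2.eq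
  have hmul := card_eq_ncard_mul X f
  rw [Q.orbit_far L.par L.hn hx L.hf, Q.ncard_far L.par hx] at hmul
  have hK' := Subgroup.card_le_of_le hKle
  rw [hK, F.card] at hK'
  have hΔle := L.card_linked_le
  rw [← hΔ] at hΔle
  have hpos : 0 < (n - 1) * (s * s) := by rcases L.cases with ⟨rfl, rfl⟩ | ⟨rfl, rfl⟩ | ⟨rfl, rfl⟩ <;> norm_num
  have hXΔ : Nat.card X ≤ Nat.card Δ := by
    rw [← hmap]
    exact Nat.card_le_card_of_surjective _ ((MonoidHom.fst G G').subgroupMap_surjective Δ)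
  have h1 := (Nat.mul_le_mul_left ((n - 1) * (s * s)) hK').trans (hmul.symm.le.trans hXΔ)
  have hcardeq : Nat.card ↥(X ⊓ Subgroup.centralizer ({f} : Set G)) = 2 * n * (n / 3) :=
    le_antisymm (Nat.le_of_mul_le_mul_left ((hmul.symm.le.trans hXΔ).trans hΔle) hpos) hK'
  have hXΔ' : Nat.card Δ ≤ Nat.card X := hΔle.trans (by rw [hmul, hcardeq])
  have hinj : Set.InjOn Prod.fst (Δ : Set (G × G')) := by
    refine Set.injOn_of_ncard_image_eq (le_antisymm (Set.ncard_image_le (Set.toFinite _)) ?_)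
      (Set.toFinite _)
    rw [show Prod.fst '' (Δ : Set (G × G')) = (Δ.map (MonoidHom.fst G G') : Set G) from rfl, hmap,
      ← Nat.card_coe_set_eq, ← Nat.card_coe_set_eq, SetLike.coe_sort_coe, SetLike.coe_sort_coe]
    exact hXΔ'
  refine ⟨fun p hp h => congrArg Prod.snd (hinj hp Δ.one_mem h), fun g hg hgf => ?_⟩
  have heq : K = X ⊓ Subgroup.centralizer ({f} : Set G) :=
    Subgroup.eq_of_le_of_card_ge hKle (by rw [hK, F.card, hcardeq])
  rw [heq]
  exact ⟨hg, Subgroup.mem_centralizer_singleton_iff.2 (commute_of_cj_eq hgf).eq⟩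

end Link

end Cfsg.Agent.H80.TTQuad
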