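import Cfsg.Agent.H80.TTQuad.Quad

/-!
The number of lines through a point: three, or nine for lines of five points.
-/

set_option autoImplicit false
set_option linter.unusedSectionVars false

namespace Cfsg.Agent.H80.TTQuad

open Cfsg
open H76.LocallyS3 (nb cj cj_cj cj_injective commute_cj_iff)

universe u

variable {G : Type u} [Group G] {D : Set G}

/-- The members commuting with two given noncommuting members. -/
def T (D : Set G) (x f : G) : Set G := nb D x ∩ nb D f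

/-- The members not commuting with `x`. -/
def far (D : Set G) (x : G) : Set G := {f : G | f ∈ D ∧ ¬ Commute x f}

/-- Lines have `s + 1` points and there are `n` of them at each point. -/
structure Param (D : Set G) (n s : ℕ) : Prop where
  line : ∀ p ∈ D, ∀ q ∈ nb D p, (B D p q).ncard = s + 1
  perp : ∀ x ∈ D, ∀ f ∈ far D x, (T D x f).ncard = n

/-- The orbit of `z` under conjugation by the members of `H`. -/
def cjOrb (H : Subgroup G) (z : G) : Set G := {w : G | ∃ g ∈ H, cj g z = w}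

theorem card_eq_ncard_mul (H : Subgroup G) (z : G) :
    Nat.card H = (cjOrb H z).ncard * Nat.card ↥(H ⊓ Subgroup.centralizer ({z} : Set G)) := by
  let _ : MulAction H G := MulAction.compHom G ((MulAut.conj : G →* MulAut G).comp H.subtype)
  have horb : MulAction.orbit H z = cjOrb H z := Set.ext fun w =>
    ⟨fun ⟨g, hg⟩ => ⟨g, g.2, hg⟩, fun ⟨g, hg, he⟩ => ⟨⟨g, hg⟩, he⟩⟩
  have hstab : MulAction.stabilizer H z = (Subgroup.centralizer ({z} : Set G)).subgroupOf H := by
    ext g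
    rw [MulAction.mem_stabilizer_iff, Subgroup.mem_subgroupOf, Subgroup.mem_centralizer_singleton_iff]
    exact mul_inv_eq_iff_eq_mul
  rw [← horb, ← MulAction.index_stabilizer, ← (MulAction.stabilizer H z).index_mul_card, hstab]
  congr 1
  rw [← Subgroup.inf_subgroupOf_left]
  exact Nat.card_congr (Subgroup.subgroupOfEquivOfLe inf_le_left).toEquiv

theorem cj_mem_of_closure [Finite G] {A S : Set G} (h : ∀ a ∈ A, ∀ w ∈ S, cj a w ∈ S) {g w : G}
    (hg : g ∈ Subgroup.closure A) (hw : w ∈ S) : cj g w ∈ S := by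
  revert w
  refine Subgroup.closure_induction (p := fun g _ => ∀ {w : G}, w ∈ S → cj g w ∈ S) ?_ ?_ ?_ ?_ hg
  · exact fun a ha w hw => h a ha w hw
  · intro w hw; rwa [cj_one]
  · intro g k _ _ ihg ihk w hw
    rw [← cj_cj]; exact ihg (ihk hw)
  · intro g _ ih w hw
    have himg : cj g '' S = S := Set.eq_of_subset_of_ncard_le (Set.image_subset_iff.2 fun z hz => ih hz)
      (Set.ncard_image_of_injective _ (cj_injective g)).ge (Set.toFinite _)
    rw [← himg] at hw
    obtain ⟨z, hz, rfl⟩ := hw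
    rwa [cj_inv_cj]

theorem mem_T_comm {x f t : G} (h : t ∈ T D x f) : t ∈ T D f x := ⟨h.2, h.1⟩

theorem T_comm (x f : G) : T D x f = T D f x := Set.inter_comm _ _

theorem far_symm {x f : G} (hx : x ∈ D) (hf : f ∈ far D x) : x ∈ far D f :=
  ⟨hx, fun h => hf.2 h.symm⟩

theorem ne_of_not_commute {a b : G} (h : ¬ Commute a b) : a ≠ b := fun e => h (e ▸ Commute.refl a)

theorem mem_T_of_commute {x f d : G} (hfar : ¬ Commute x f) (hd : d ∈ D)
    (h : Commute x d) (h' : Commute f d) : d ∈ T D x f :=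
  ⟨⟨hd, fun e => hfar (e ▸ h'.symm), h⟩, ⟨hd, fun e => hfar (e ▸ h), h'⟩⟩

namespace Quad

variable (Q : Quad D)
include Q

theorem T_eq_of_commute {x f t t' : G} (hx : x ∈ D) (hf : f ∈ far D x) (ht : t ∈ T D x f)
    (ht' : t' ∈ T D x f) (h : Commute t t') : t = t' :=
  by_contra fun hne => hf.2 (Q.tri t ht.1.1 t' ⟨ht'.1.1, fun e => hne e.symm, h⟩ x f
    ⟨hx, ht.1.2.2, ht'.1.2.2⟩ ⟨hf.1, ht.2.2.2, ht'.2.2.2⟩)

theorem T_cj {x f t t' : G} (ht : t ∈ T D x f) (ht' : t' ∈ T D x f) : cj t t' ∈ T D x f :=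
  ⟨Q.cj_mem_nb ht.1.2.2.symm ht'.1, Q.cj_mem_nb ht.2.2.2.symm ht'.2⟩

variable [Finite G]

theorem exists_T {x f a : G} (hx : x ∈ D) (hf : f ∈ far D x) (ha : a ∈ nb D x) :
    ∃ t ∈ T D x f, Commute a t := by
  obtain ⟨r, hr, hfr⟩ := Q.exists_trace hx ha hf.1
  exact ⟨r, mem_T_of_commute hf.2 hr.1 hr.2.1.symm hfr, hr.2.2.symm⟩

theorem T_unique {x f a t t' : G} (hx : x ∈ D) (hf : f ∈ far D x) (ha : a ∈ nb D x)
    (ht : t ∈ T D x f) (ht' : t' ∈ T D x f) (h : Commute a t) (h' : Commute a t') : t = t' :=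
  Q.T_eq_of_commute hx hf ht ht' (Q.comm_trans hx ht.1 ha ht'.1 h.symm h')

theorem ncard_nb_mul {x f : G} {s : ℕ} (hs : ∀ p ∈ D, ∀ q ∈ nb D p, (B D p q).ncard = s + 1)
    (hx : x ∈ D) (hf : f ∈ far D x) : (nb D x).ncard = (T D x f).ncard * s := by
  classical
  have h1 : (Set.toFinite (nb D x)).toFinset = (Set.toFinite (T D x f)).toFinset.biUnion
      fun t => (Set.toFinite (B D x t \ {x})).toFinset := by
    ext a
    simp only [Set.Finite.mem_toFinset, Finset.mem_biUnion, Set.mem_sdiff, Set.mem_singleton_iff]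
    constructor
    · intro ha
      obtain ⟨t, ht, hat⟩ := Q.exists_T hx hf ha
      exact ⟨t, ht, ⟨ha.1, ha.2.2.symm, hat⟩, ha.2.1⟩
    · rintro ⟨t, -, hat, hax⟩
      exact Q.mem_nb_of_mem_B hat hax
  rw [Set.ncard_eq_toFinset_card (nb D x), h1, Finset.card_biUnion ?_,
    Set.ncard_eq_toFinset_card (T D x f)]
  · rw [Finset.sum_const_nat (m := s) fun t ht => ?_]
    rw [Set.Finite.mem_toFinset] at ht
    rw [← Set.ncard_eq_toFinset_card, Set.ncard_sdiff_singleton_of_mem (Q.left_mem_B hx ht.1),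
      hs x hx t ht.1, Nat.add_sub_cancel]
  · intro t ht t' ht' hne
    rw [Finset.mem_coe, Set.Finite.mem_toFinset] at ht ht'
    rw [Function.onFun, Finset.disjoint_left]
    intro a ha ha'
    rw [Set.Finite.mem_toFinset] at ha ha'
    exact hne (Q.T_unique hx hf (Q.mem_nb_of_mem_B ha.1 ha.2) ht ht' ha.1.2.2 ha'.1.2.2)

theorem ncard_nb_eq {x y : G} (hx : x ∈ D) (hy : y ∈ D) : (nb D x).ncard = (nb D y).ncard := by
  have key : ∀ {x y : G}, x ∈ D → y ∈ D → (nb D x).ncard ≤ (nb D y).ncard := by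
    intro x y hx hy
    obtain ⟨g, rfl⟩ := Q.exists_cj hx hy
    exact Set.ncard_le_ncard_of_injOn (cj g) (fun a ha => Q.cj_nb g ha) (cj_injective g).injOn
      (Set.toFinite _)
  exact le_antisymm (key hx hy) (key hy hx)

theorem exists_param : ∃ n s : ℕ, Param D n s ∧ (s = 2 ∨ s = 4) := by
  obtain ⟨x, hx⟩ := Q.nonempty
  obtain ⟨a, ha⟩ := Q.nb_nonempty hx
  obtain ⟨f, hf, hxf⟩ := Q.exists_noncommute hx
  obtain ⟨s, hs⟩ : ∃ s, (B D x a).ncard = s + 1 :=
    ⟨(B D x a).ncard - 1, by have := Q.three_le_ncard_B hx ha; omega⟩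
  have hline : ∀ p ∈ D, ∀ q ∈ nb D p, (B D p q).ncard = s + 1 :=
    fun p hp q hq => (Q.ncard_B hp hq hx ha).trans hs
  refine ⟨(T D x f).ncard, s, ⟨hline, fun y hy g hg => ?_⟩, ?_⟩
  · have h := Q.ncard_nb_eq hy hx
    rw [Q.ncard_nb_mul hline hy hg, Q.ncard_nb_mul hline hx ⟨hf, hxf⟩] at h
    have : 0 < s := by have := Q.three_le_ncard_B hx ha; omega
    exact Nat.eq_of_mul_eq_mul_right this h
  · rcases Q.ncard_B_cases hx ha with h | h <;> omega

/-- A closed set of pairwise noncommuting members has `3`-power order. -/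
theorem three_pow_of_closed {S : Set G} (hS : S ⊆ D) (hcl : ∀ a ∈ S, ∀ b ∈ S, cj a b ∈ S)
    (hnc : ∀ a ∈ S, ∀ b ∈ S, Commute a b → a = b) (hne : S.Nonempty) : ∃ k, S.ncard = 3 ^ k := by
  have : Fact (Nat.Prime 3) := ⟨Nat.prime_three⟩
  set K := Subgroup.closure {z | ∃ a ∈ S, ∃ b ∈ S, z = a * b} with hK
  have hp : IsPGroup 3 K := Components.isPGroup_closure_products Components.zStarTheorem
    (fun a ha => Q.cl.1.1 a (hS ha)) (fun a ha b hb => by
      have h := hcl a ha b hb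
      rwa [cj, Q.inv' (hS ha)] at h) (fun a ha b hb => by
      by_cases h : Commute a b
      · rw [hnc a ha b hb h, Q.sq (hS hb), one_pow]
      · exact Q.cube (hS ha) (hS hb) h)
  obtain ⟨t, ht⟩ := hne
  have horb : cjOrb K t = S := by
    refine Set.Subset.antisymm ?_ fun u hu => ?_
    · rintro _ ⟨k, hk, rfl⟩
      refine cj_mem_of_closure ?_ hk ht
      rintro _ ⟨a, ha, b, hb, rfl⟩ w hw
      rw [← cj_cj]
      exact hcl a ha _ (hcl b hb w hw)
    · refine ⟨t * u, Subgroup.subset_closure ⟨t, ht, u, hu, rfl⟩, ?_⟩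
      by_cases h : Commute t u
      · rw [hnc t ht u hu h, Q.sq (hS hu), cj_one]
      · rw [← cj_cj, Q.braid (hS hu) (hS ht) fun q => h q.symm, Q.cj_invol (hS ht)]
  obtain ⟨k, hk⟩ := hp.exists_card_eq
  obtain ⟨j, -, hj⟩ := (Nat.dvd_prime_pow Nat.prime_three).1
    (show (cjOrb K t).ncard ∣ 3 ^ k from hk ▸ ⟨_, card_eq_ncard_mul K t⟩)
  exact ⟨j, horb ▸ hj⟩

variable {n s : ℕ} (P : Param D n s)
include P

theorem ncard_nb {x : G} (hx : x ∈ D) : (nb D x).ncard = n * s := by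
  obtain ⟨f, hf, hxf⟩ := Q.exists_noncommute hx
  rw [Q.ncard_nb_mul P.line hx ⟨hf, hxf⟩, P.perp x hx f ⟨hf, hxf⟩]

theorem two_le_s {x : G} (hx : x ∈ D) : 2 ≤ s := by
  obtain ⟨a, ha⟩ := Q.nb_nonempty hx
  have h := Q.three_le_ncard_B hx ha
  rw [P.line x hx a ha] at h
  omega

theorem two_le_n {x : G} (hx : x ∈ D) : 2 ≤ n := by
  obtain ⟨a, ha⟩ := Q.nb_nonempty hx
  obtain ⟨b, hb, hab⟩ := Q.exists_noncommute_nb hx ha
  obtain ⟨f, hf, hxf⟩ := Q.exists_noncommute hx
  obtain ⟨t, ht, hat⟩ := Q.exists_T hx ⟨hf, hxf⟩ ha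
  obtain ⟨t', ht', hbt⟩ := Q.exists_T hx ⟨hf, hxf⟩ hb
  have hne : t ≠ t' := fun e => hab (Q.comm_trans hx ha ht.1 hb hat (e ▸ hbt.symm))
  rw [← P.perp x hx f ⟨hf, hxf⟩]
  exact (Set.one_lt_ncard (Set.toFinite _)).2 ⟨t, ht, t', ht', hne⟩

/-- The number of points off the line through `p` and `q`. -/
theorem ncard_D {p q : G} (hp : p ∈ D) (hq : q ∈ nb D p) :
    D.ncard = (s + 1) + (s + 1) * (n * s - s) := by
  classical
  have hsub : B D p q ⊆ D := fun d hd => hd.1
  rw [← Set.ncard_sdiff_add_ncard_of_subset hsub (Set.toFinite _), P.line p hp q hq, add_comm]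
  congr 1
  have hU : (Set.toFinite (D \ B D p q)).toFinset = (Set.toFinite (B D p q)).toFinset.biUnion
      fun r => (Set.toFinite (nb D r \ B D p q)).toFinset := by
    ext g
    simp only [Set.Finite.mem_toFinset, Finset.mem_biUnion, Set.mem_sdiff]
    constructor
    · rintro ⟨hg, hn⟩
      obtain ⟨r, hr, hgr⟩ := Q.exists_trace hp hq hg
      exact ⟨r, hr, ⟨hg, fun e => hn (e ▸ hr), hgr.symm⟩, hn⟩
    · rintro ⟨r, -, hg, hn⟩
      exact ⟨hg.1, hn⟩
  rw [Set.ncard_eq_toFinset_card (D \ B D p q), hU, Finset.card_biUnion ?_]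
  · rw [Finset.sum_const_nat (m := n * s - s) fun r hr => ?_]
    · rw [← Set.ncard_eq_toFinset_card, P.line p hp q hq]
    rw [Set.Finite.mem_toFinset] at hr
    rw [← Set.ncard_eq_toFinset_card]
    have hsub' : B D p q \ {r} ⊆ nb D r := fun d hd => ⟨hd.1.1, hd.2, Q.tri p hp q hq r d hr hd.1⟩
    have hseteq : nb D r \ B D p q = nb D r \ (B D p q \ {r}) := by
      ext d
      simp only [Set.mem_sdiff, Set.mem_singleton_iff, not_and, not_not]
      exact ⟨fun h => ⟨h.1, fun hd => absurd hd h.2⟩, fun h => ⟨h.1, fun hd => h.1.2.1 (h.2 hd)⟩⟩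
    rw [hseteq, Set.ncard_sdiff hsub' (Set.toFinite _), Q.ncard_nb P hr.1,
      Set.ncard_sdiff_singleton_of_mem hr, P.line p hp q hq, Nat.add_sub_cancel]
  · intro r hr r' hr' hne
    rw [Finset.mem_coe, Set.Finite.mem_toFinset] at hr hr'
    rw [Function.onFun, Finset.disjoint_left]
    intro g hg hg'
    rw [Set.Finite.mem_toFinset] at hg hg'
    exact hne (Q.trace_unique hp hq hg.1.1 hg.2 hr hr' hg.1.2.2.symm hg'.1.2.2.symm)

theorem ncard_D' {x : G} (hx : x ∈ D) : D.ncard = 1 + n * s + (far D x).ncard := by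
  have h1 : D = insert x (nb D x) ∪ far D x := by
    ext d
    refine ⟨fun hd => ?_, ?_⟩
    · by_cases h : Commute x d
      · by_cases e : d = x
        · exact Or.inl (Or.inl e)
        · exact Or.inl (Or.inr ⟨hd, e, h⟩)
      · exact Or.inr ⟨hd, h⟩
    · rintro ((rfl | h) | h)
      exacts [hx, h.1, h.1]
  have h2 : Disjoint (insert x (nb D x)) (far D x) := by
    rw [Set.disjoint_left]
    rintro d (rfl | h) h'
    exacts [h'.2 (Commute.refl _), h'.2 h.2.2]
  conv_lhs => rw [h1]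
  rw [Set.ncard_union_eq h2 (Set.toFinite _) (Set.toFinite _),
    Set.ncard_insert_of_notMem (fun h => h.2.1 rfl) (Set.toFinite _), Q.ncard_nb P hx, add_comm 1]

theorem ncard_far {x : G} (hx : x ∈ D) : (far D x).ncard = (n - 1) * (s * s) := by
  obtain ⟨a, ha⟩ := Q.nb_nonempty hx
  have h := (Q.ncard_D' P hx).symm.trans (Q.ncard_D P hx ha)
  obtain ⟨m, rfl⟩ : ∃ m, n = m + 1 := ⟨n - 1, by have := Q.two_le_n P hx; omega⟩
  rw [show (m + 1) * s - s = m * s by rw [add_mul, one_mul, Nat.add_sub_cancel]] at h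
  rw [Nat.add_sub_cancel]
  nlinarith

theorem exists_three_pow {x : G} (hx : x ∈ D) : ∃ k, n = 3 ^ k := by
  obtain ⟨f, hf, hxf⟩ := Q.exists_noncommute hx
  have hfar : f ∈ far D x := ⟨hf, hxf⟩
  have hne : (T D x f).Nonempty := by
    obtain ⟨a, ha⟩ := Q.nb_nonempty hx
    obtain ⟨t, ht, -⟩ := Q.exists_T hx hfar ha
    exact ⟨t, ht⟩
  rw [← P.perp x hx f hfar]
  exact Q.three_pow_of_closed (fun a ha => ha.1.1) (fun a ha b hb => Q.T_cj ha hb)
    (fun a ha b hb h => Q.T_eq_of_commute hx hfar ha hb h) hne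

theorem eq_three_of_two (hs : s = 2) {x : G} (hx : x ∈ D) : n = 3 := by
  subst hs
  obtain ⟨k, hk⟩ := Q.exists_three_pow P hx
  have h2 := Q.two_le_n P hx
  by_contra hn
  have h4 : 4 ≤ n := by
    rcases k with _ | _ | k
    · rw [hk] at h2; norm_num at h2
    · exact absurd (by rw [hk]; norm_num) hn
    · rw [hk, pow_succ, pow_succ]; have := Nat.one_le_pow k 3 (by norm_num); omega
  obtain ⟨f, hf, hxf⟩ := Q.exists_noncommute hx
  have hfar : f ∈ far D x := ⟨hf, hxf⟩
  have hcardT := P.perp x hx f hfar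
  obtain ⟨a, ha, b, hb, hab⟩ := (Set.one_lt_ncard (Set.toFinite _)).1
    (show 1 < (T D x f).ncard by omega)
  have hnab : ¬ Commute a b := fun h => hab (Q.T_eq_of_commute hx hfar ha hb h)
  set c := cj a b with hc
  have hcT : c ∈ T D x f := Q.T_cj ha hb
  obtain ⟨d, hd, hdn⟩ : ∃ d ∈ T D x f, d ∉ ({a, b, c} : Set G) := by
    by_contra hall
    push Not at hall
    have h3 : ({a, b, c} : Set G).ncard ≤ 3 :=
      (Set.ncard_insert_le _ _).trans (Nat.add_le_add_right
        ((Set.ncard_insert_le _ _).trans (Nat.add_le_add_right (Set.ncard_singleton _).le 1)) 1)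
    have := Set.ncard_le_ncard hall (Set.toFinite _)
    omega
  simp only [Set.mem_insert_iff, Set.mem_singleton_iff, not_or] at hdn
  have hnd : ∀ {t}, t ∈ T D x f → d ≠ t → ¬ Commute d t := fun {t} ht hne h =>
    hne (Q.T_eq_of_commute hx hfar hd ht h)
  set e := cj d b with he
  have heT : e ∈ T D x f := Q.T_cj hd hb
  set g := cj a d with hg
  have hgT : g ∈ T D x f := Q.T_cj ha hd
  have hgb : ¬ Commute g b := by
    intro h
    have h1 : cj a d = b := Q.T_eq_of_commute hx hfar hgT hb h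
    exact hdn.2.2 (by rw [hc, ← h1, Q.cj_invol ha.1.1])
  have hce : ¬ Commute c e := by
    intro h
    have h1 := Q.T_eq_of_commute hx hfar hcT heT h
    rw [hc, he, Q.braid ha.1.1 hb.1.1 hnab, Q.braid hd.1.1 hb.1.1 (hnd hb hdn.2.1)] at h1
    exact hdn.1 (cj_injective b h1).symm
  obtain ⟨y, hy, hyx, hyb⟩ := Q.big x hx b hb.1
  have hyn := Q.mem_nb_of_mem_B hy hyx
  have hnT : ∀ {w}, w ∈ T D x f → cj w y ∉ T D x f := fun {w} hw h => by
    have h1 := Q.T_cj hw h
    rw [Q.cj_invol hw.1.1] at h1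
    exact hyb (Q.T_eq_of_commute hx hfar h1 hb hy.2.2)
  have hny : ∀ {w}, w ∈ T D x f → ¬ Commute w b → ¬ Commute w y := fun {w} hw hwb h =>
    hwb (Q.comm_trans hx hw.1 hyn hb.1 h hy.2.2)
  have hay := hny ha hnab
  have hdy := hny hd (hnd hb hdn.2.1)
  have hgy := hny hgT hgb
  set α := cj a y with hα
  set δ := cj d y with hδ
  have hαn : α ∈ nb D x := Q.cj_mem_nb ha.1.2.2.symm hyn
  have hδn : δ ∈ nb D x := Q.cj_mem_nb hd.1.2.2.symm hyn
  have hαc : Commute α c := commute_cj_iff.2 hy.2.2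
  have hδe : Commute δ e := commute_cj_iff.2 hy.2.2
  have hαe : ¬ Commute α e := fun h => hce (Q.comm_trans hx hcT.1 hαn heT.1 hαc.symm h)
  have hid : cj α δ = cj g y := by
    rw [hα, hδ, Q.braid ha.1.1 hyn.1 hay, Q.braid hd.1.1 hyn.1 hdy, Q.braid hgT.1.1 hyn.1 hgy, hg]
    simp only [cj, Q.inv' hyn.1, Q.inv' ha.1.1]
    rw [show (y * a * y) * (y * d * y) * (y * a * y)⁻¹ = y * (a * (y * y) * d * a⁻¹) * y⁻¹ by group,
      Q.sq hyn.1, Q.inv' hyn.1, Q.inv' ha.1.1, mul_one]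
  have hαn' : ∀ {z}, z ∈ nb D x → cj α z ∈ nb D x := fun {z} hz => Q.cj_mem_nb hαn.2.2.symm hz
  set m := cj α δ with hm
  set m' := cj α e with hm'
  have hmm : Commute m m' := commute_cj_iff.2 hδe
  have hm'h : Commute m' (cj c e) := by
    rw [hm', Q.braid hαn.1 heT.1.1 hαe, Q.braid hcT.1.1 heT.1.1 hce]
    exact commute_cj_iff.2 hαc
  have hh : cj c e ∈ T D x f := Q.T_cj hcT heT
  have hmh : Commute m (cj c e) := Q.comm_trans hx (hαn' hδn) (hαn' heT.1) hh.1 hmm hm'h
  have hne1 : m ≠ m' := fun q => hnT hd (by rw [← hδ, cj_injective α q]; exact heT)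
  have hne2 : m ≠ cj c e := fun q => hnT hgT (by rw [← hid, q]; exact hh)
  have hne3 : m' ≠ cj c e := fun q => by
    rw [hm', Q.braid hαn.1 heT.1.1 hαe, Q.braid hcT.1.1 heT.1.1 hce] at q
    exact hnT ha (by rw [← hα, cj_injective e q]; exact hcT)
  have hsub : ({x, m, m', cj c e} : Set G) ⊆ B D x (cj c e) := by
    rintro z (rfl | rfl | rfl | rfl)
    exacts [Q.left_mem_B hx hh.1, ⟨(hαn' hδn).1, (hαn' hδn).2.2.symm, hmh⟩,
      ⟨(hαn' heT.1).1, (hαn' heT.1).2.2.symm, hm'h⟩, Q.right_mem_B hh.1]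
  have h4' := Set.ncard_le_ncard hsub (Set.toFinite _)
  rw [P.line x hx _ hh.1, Set.ncard_insert_of_notMem (by
      simp only [Set.mem_insert_iff, Set.mem_singleton_iff, not_or]
      exact ⟨(hαn' hδn).2.1.symm, (hαn' heT.1).2.1.symm, hh.1.2.1.symm⟩) (Set.toFinite _),
    Set.ncard_eq_three.2 ⟨m, m', cj c e, hne1, hne2, hne3, rfl⟩] at h4'
  omega

theorem le_seventeen (hs : s = 4) {x : G} (hx : x ∈ D) : n ≤ 17 := by
  classical
  subst hs
  obtain ⟨y, hy, hxy⟩ := Q.exists_noncommute hx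
  have hfar : y ∈ far D x := ⟨hy, hxy⟩
  have hfar' : x ∈ far D y := far_symm hx hfar
  have hn := Q.two_le_n P hx
  obtain ⟨m, rfl⟩ : ∃ m, n = m + 2 := ⟨n - 2, by omega⟩
  set Z := (Set.toFinite (far D x ∩ far D y)).toFinset with hZ
  set S := (Set.toFinite (T D x y)).toFinset with hS
  have hSc : S.card = m + 2 := by rw [hS, ← Set.ncard_eq_toFinset_card, P.perp x hx y hfar]
  have hmS : ∀ {t}, t ∈ S ↔ t ∈ T D x y := fun {t} => Set.Finite.mem_toFinset _
  have hlift : ∀ (p : G → Prop) [DecidablePred p], (Z.filter p).card = {z | z ∈ far D x ∧ z ∈ far D y ∧ p z}.ncard := by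
    intro p _
    rw [← Set.ncard_coe_finset]
    congr 1
    ext z
    simp [hZ, and_assoc]
  -- the neighbours of one point
  have hone : ∀ t ∈ S, (Z.filter (Commute t)).card = m * 4 := by
    intro t ht
    rw [hmS] at ht
    have htx : x ∈ nb D t := nb_symm hx ht.1
    have hty : y ∈ nb D t := nb_symm hy ht.2
    have hdis : Disjoint (B D t x \ {t}) (B D t y \ {t}) := by
      rw [Set.disjoint_left]
      rintro z ⟨hz, hzt⟩ ⟨hz', -⟩
      exact hxy (Q.comm_trans ht.1.1 htx (Q.mem_nb_of_mem_B hz hzt) hty hz.2.2.symm hz'.2.2)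
    have hsub : (B D t x \ {t}) ∪ (B D t y \ {t}) ⊆ nb D t := by
      rintro z (⟨hz, hzt⟩ | ⟨hz, hzt⟩) <;> exact Q.mem_nb_of_mem_B hz hzt
    have hset : {z | z ∈ far D x ∧ z ∈ far D y ∧ Commute t z} =
        nb D t \ ((B D t x \ {t}) ∪ (B D t y \ {t})) := by
      ext z
      simp only [Set.mem_sdiff, Set.mem_union, Set.mem_singleton_iff, Set.mem_setOf_eq]
      constructor
      · rintro ⟨h1, h2, h3⟩
        refine ⟨⟨h1.1, fun e => h1.2 (e ▸ ht.1.2.2), h3⟩, ?_⟩
        rintro (⟨h, -⟩ | ⟨h, -⟩)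
        exacts [h1.2 h.2.2.symm, h2.2 h.2.2.symm]
      · rintro ⟨h1, h2⟩
        refine ⟨⟨h1.1, fun h => h2 (Or.inl ⟨⟨h1.1, h1.2.2.symm, h.symm⟩, h1.2.1⟩)⟩,
          ⟨h1.1, fun h => h2 (Or.inr ⟨⟨h1.1, h1.2.2.symm, h.symm⟩, h1.2.1⟩)⟩, h1.2.2⟩
    rw [hlift, hset, Set.ncard_sdiff hsub (Set.toFinite _), Q.ncard_nb P ht.1.1,
      Set.ncard_union_eq hdis (Set.toFinite _) (Set.toFinite _),
      Set.ncard_sdiff_singleton_of_mem (Q.left_mem_B ht.1.1 htx),
      Set.ncard_sdiff_singleton_of_mem (Q.left_mem_B ht.1.1 hty),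
      P.line t ht.1.1 x htx, P.line t ht.1.1 y hty]
    omega
  -- the common neighbours of two points
  have htwo : ∀ t ∈ S, ∀ t' ∈ S, t' ≠ t → (Z.filter fun z => Commute t z ∧ Commute t' z).card = m := by
    intro t ht t' ht' hne
    rw [hmS] at ht ht'
    have hnc : ¬ Commute t t' := fun h => hne (Q.T_eq_of_commute hx hfar ht ht' h).symm
    have hfar2 : t' ∈ far D t := ⟨ht'.1.1, hnc⟩
    have hxT : x ∈ T D t t' := mem_T_of_commute hnc hx ht.1.2.2.symm ht'.1.2.2.symm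
    have hyT : y ∈ T D t t' := mem_T_of_commute hnc hy ht.2.2.2.symm ht'.2.2.2.symm
    have hset : {z | z ∈ far D x ∧ z ∈ far D y ∧ Commute t z ∧ Commute t' z} =
        T D t t' \ {x, y} := by
      ext z
      simp only [Set.mem_sdiff, Set.mem_insert_iff, Set.mem_singleton_iff, Set.mem_setOf_eq, not_or]
      constructor
      · rintro ⟨h1, h2, h3, h4⟩
        exact ⟨mem_T_of_commute hnc h1.1 h3 h4, fun e => h1.2 (e ▸ Commute.refl _),
          fun e => h2.2 (e ▸ Commute.refl _)⟩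
      · rintro ⟨h1, h2, h3⟩
        exact ⟨⟨h1.1.1, fun h => h2 (Q.T_eq_of_commute ht.1.1 hfar2 h1 hxT h.symm)⟩,
          ⟨h1.1.1, fun h => h3 (Q.T_eq_of_commute ht.1.1 hfar2 h1 hyT h.symm)⟩, h1.1.2.2, h1.2.2.2⟩
    have hsub : ({x, y} : Set G) ⊆ T D t t' := by
      rintro z (rfl | rfl)
      exacts [hxT, hyT]
    rw [hlift, hset, Set.ncard_sdiff hsub (Set.toFinite _), P.perp t ht.1.1 t' hfar2,
      Set.ncard_pair (ne_of_not_commute hxy)]
    omega
  have hd : Z.card = 13 * (m + 2) - 17 := by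
    obtain ⟨a, ha⟩ := Q.nb_nonempty hx
    have hD := Q.ncard_D P hx ha
    rw [hZ, ← Set.ncard_eq_toFinset_card]
    have h1 := Q.ncard_D' P hx
    have h3 : (far D x).ncard = (far D x ∩ far D y).ncard + (far D x \ far D y).ncard :=
      (Set.ncard_inter_add_ncard_sdiff_eq_ncard _ _ (Set.toFinite _)).symm
    have h4 : far D x \ far D y = insert y (nb D y \ T D x y) := by
      ext z
      simp only [Set.mem_sdiff, Set.mem_insert_iff]
      constructor
      · rintro ⟨h5, h6⟩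
        by_cases hzy : z = y
        · exact Or.inl hzy
        · exact Or.inr ⟨⟨h5.1, hzy, not_not.1 fun h => h6 ⟨h5.1, h⟩⟩, fun h => h5.2 h.1.2.2⟩
      · rintro (rfl | ⟨h5, h6⟩)
        · exact ⟨hfar, fun h => h.2 (Commute.refl _)⟩
        · exact ⟨⟨h5.1, fun h => h6 (mem_T_of_commute hxy h5.1 h h5.2.2)⟩, fun h => h.2 h5.2.2⟩
    rw [h4, Set.ncard_insert_of_notMem (fun h => h.1.2.1 rfl) (Set.toFinite _),
      Set.ncard_sdiff (show T D x y ⊆ nb D y from fun z hz => hz.2) (Set.toFinite _), P.perp x hx y hfar,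
      Q.ncard_nb P hy] at h3
    omega
  have hsum : ∑ z ∈ Z, (S.filter fun t => Commute t z).card = (m + 2) * (m * 4) := by
    calc ∑ z ∈ Z, (S.filter fun t => Commute t z).card
        = ∑ t ∈ S, (Z.filter (Commute t)).card := by
          simp only [Finset.card_filter]; exact Finset.sum_comm
      _ = _ := by rw [Finset.sum_const_nat hone, hSc]
  have hsq : ∑ z ∈ Z, (S.filter fun t => Commute t z).card ^ 2 =
      (m + 2) * (m * 4 + (m + 1) * m) := by
    calc ∑ z ∈ Z, (S.filter fun t => Commute t z).card ^ 2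
        = ∑ t ∈ S, ∑ t' ∈ S, (Z.filter fun z => Commute t z ∧ Commute t' z).card := by
          simp only [pow_two, Finset.card_filter, Finset.sum_mul_sum]
          rw [Finset.sum_comm]
          refine Finset.sum_congr rfl fun t _ => ?_
          rw [Finset.sum_comm]
          refine Finset.sum_congr rfl fun t' _ => Finset.sum_congr rfl fun z _ => ?_
          by_cases h : Commute t z <;> by_cases h' : Commute t' z <;> simp [h, h']
      _ = _ := by
          rw [Finset.sum_const_nat (m := m * 4 + (m + 1) * m) fun t ht => ?_, hSc]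
          rw [← Finset.add_sum_erase S _ ht, Finset.sum_const_nat (m := m) fun t' ht' =>
            htwo t ht t' (Finset.mem_of_mem_erase ht') (Finset.ne_of_mem_erase ht'),
            Finset.card_erase_of_mem ht, hSc]
          simp only [and_self]
          rw [hone t ht]
          rfl
  have hcs := sq_sum_le_card_mul_sum_sq (s := Z) (f := fun z => (S.filter fun t => Commute t z).card)
  rw [hsum, hsq, hd] at hcs
  by_contra hlt
  push Not at hlt
  obtain ⟨j, rfl⟩ : ∃ j, m = j + 16 := ⟨m - 16, by omega⟩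
  rw [show 13 * (j + 16 + 2) - 17 = 13 * j + 217 by omega] at hcs
  have hid : ((j + 16 + 2) * ((j + 16) * 4)) ^ 2 =
      (13 * j + 217) * ((j + 16 + 2) * ((j + 16) * 4 + (j + 16 + 1) * (j + 16))) +
        (j + 18) * (j + 16) * (3 * j ^ 2 + 54 * j + 51) := by ring
  have hpos : 0 < (j + 18) * (j + 16) * (3 * j ^ 2 + 54 * j + 51) := by positivity
  linarith

/-- The three possibilities. -/
theorem param_cases : (n = 3 ∧ s = 2) ∨ (n = 3 ∧ s = 4) ∨ (n = 9 ∧ s = 4) := by
  obtain ⟨x, hx⟩ := Q.nonempty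
  obtain ⟨a, ha⟩ := Q.nb_nonempty hx
  have h := Q.ncard_B_cases hx ha
  rw [P.line x hx a ha] at h
  rcases h with h | h
  · exact Or.inl ⟨Q.eq_three_of_two P (by omega) hx, by omega⟩
  · obtain ⟨k, hk⟩ := Q.exists_three_pow P hx
    have h17 := Q.le_seventeen P (by omega) hx
    have h2 := Q.two_le_n P hx
    rcases k with _ | _ | _ | k
    · rw [hk] at h2; norm_num at h2
    · exact Or.inr (Or.inl ⟨by rw [hk]; norm_num, by omega⟩)
    · exact Or.inr (Or.inr ⟨by rw [hk]; norm_num, by omega⟩)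
    · rw [hk, pow_succ, pow_succ, pow_succ] at h17
      have := Nat.one_le_pow k 3 (by norm_num)
      omega

end Quad

end Cfsg.Agent.H80.TTQuad
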