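import Cfsg.Agent.H80.TTQuad.Residue

/-!
Either every line has two points and the group is `S₅`, or commuting triples are collinear and
every line has at least three points.
-/

set_option autoImplicit false
set_option linter.unusedSectionVars false

namespace Cfsg.Agent.H80.TTQuad

open Cfsg
open H76.LocallyS3 (nb cj cj_cj cj_injective commute_cj_iff)

universe u

variable {G : Type u} [Group G] {D : Set G}

/-- The common commuting set of a commuting pair consists of commuting members and has a third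
member. -/
structure Quad (D : Set G) : Prop extends Cls D where
  tri : ∀ p ∈ D, ∀ q ∈ nb D p, ∀ r r' : G, r ∈ B D p q → r' ∈ B D p q → Commute r r'
  big : ∀ p ∈ D, ∀ q ∈ nb D p, ∃ r ∈ B D p q, r ≠ p ∧ r ≠ q

namespace Cls

variable [Finite G] (H : Cls D)
include H

theorem five_of_thin (hs : SolvRes D)
    (hthin : ∀ x ∈ D, ∀ a ∈ nb D x, ∀ c, OnLine D x a c → c = x ∨ c = a) :
    Nonempty (G ≃* Equiv.Perm (Fin 5)) := by
  have hT : ∀ y ∈ D, ∀ p ∈ nb D y, ∃ q, q ≠ p ∧ H76.LocalTwins.Tw D y p q := by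
    intro y hy p hp
    obtain ⟨q, hq, hpq, h⟩ := H.exists_partner hs hy hp
    refine ⟨q, fun e => hpq (e ▸ Commute.refl p), hp, hq, Set.ext fun c => ⟨fun hc => ?_, fun hc => ?_⟩⟩
    · have h1 : ¬ OnLine D y p c := fun hl => by
        rcases hthin y hy p hp c hl with e | e
        · exact hc.1.2.1 e
        · exact hc.2.2.1 e
      have h2 : ¬ OnLine D y q c := fun hl => by
        rcases hthin y hy q hq c hl with e | e
        · exact hc.1.2.1 e
        · exact hpq (e ▸ hc.2.2.2)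
      exact ⟨hc.1, hc.2.1, fun e => hpq (e ▸ hc.2.2.2), ((h c hc.1 h1 h2).1 hc.2.2.2.symm).symm⟩
    · have h1 : ¬ OnLine D y p c := fun hl => by
        rcases hthin y hy p hp c hl with e | e
        · exact hc.1.2.1 e
        · exact hpq (e ▸ hc.2.2.2.symm)
      have h2 : ¬ OnLine D y q c := fun hl => by
        rcases hthin y hy q hq c hl with e | e
        · exact hc.1.2.1 e
        · exact hc.2.2.1 e
      exact ⟨hc.1, hc.2.1, fun e => hpq (e ▸ hc.2.2.2.symm),
        ((h c hc.1 h1 h2).2 hc.2.2.2.symm).symm⟩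
  obtain ⟨x, hx⟩ := H.nonempty
  obtain ⟨a, ha⟩ := H.nb_nonempty hx
  obtain ⟨b, hb, hab, -⟩ := H.exists_partner hs hx ha
  exact H76.LocalTwins.five H.isRigid H.cl.2.2
    (fun y hy p hp => H76.LocalTwins.M_eq_empty H.isRigid hT hy hp) hx ha hb
    fun e => hab (e ▸ Commute.refl a)

theorem triangle (hs : SolvRes D) (hbig : ∀ p ∈ D, ∀ q ∈ nb D p, ∃ r, OnLine D p q r ∧ r ≠ p ∧ r ≠ q)
    {x a c : G} (hx : x ∈ D) (ha : a ∈ nb D x) (hc : c ∈ nb D x) (hca : c ≠ a)
    (hac : Commute a c) : OnLine D x a c := by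
  by_contra hl
  obtain ⟨b, hb, hab, h⟩ := H.exists_partner hs hx ha
  have hcb : ¬ OnLine D x b c := fun q => by
    have h1 : a ∈ B D x c := ⟨ha.1, ha.2.2.symm, hac⟩
    rw [H.B_eq_of_onLine hx hb q hc.2.1] at h1
    exact hab h1.2.2
  have hbc : Commute c b := (h c hc hl hcb).1 hac.symm
  have hc' : c ∈ nb D a := ⟨hc.1, hca, hac⟩
  have hx' : x ∈ nb D a := nb_symm hx ha
  obtain ⟨e, he, hea, hec⟩ := hbig a ha.1 c hc'
  have hxe : Commute e x := he.2 x ⟨hx, ha.2.2, hc.2.2⟩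
  have hae : Commute a e := (he.2 a (H.left_mem_B ha.1 hc')).symm
  have hce : Commute e c := he.2 c (H.right_mem_B hc')
  have key : ∀ r, OnLine D a c r → r ≠ a → ¬ OnLine D a x r := by
    intro r hr hra hrx
    have h1 := (H.B_eq_of_onLine ha.1 hx' hrx hra).symm.trans (H.B_eq_of_onLine ha.1 hc' hr hra)
    refine hl ⟨hc.1, fun d hd => ?_⟩
    rw [B_comm, h1] at hd
    exact hd.2.2.symm
  have hex : e ≠ x := fun q => key x (q ▸ he) hx'.2.1 (H.onLine_right hx')
  have hen : e ∈ nb D x := ⟨he.1, hex, hxe.symm⟩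
  have he1 : ¬ OnLine D x a e := fun q => key e he hea ⟨q.1, by rw [B_comm]; exact q.2⟩
  have he2 : ¬ OnLine D x b e := fun q => by
    have h1 : a ∈ B D x e := ⟨ha.1, ha.2.2.symm, hae⟩
    rw [H.B_eq_of_onLine hx hb q hex] at h1
    exact hab h1.2.2
  have hbe : Commute e b := (h e hen he1 he2).1 hae.symm
  have h1 : b ∈ B D c e := ⟨hb.1, hbc.symm, hbe.symm⟩
  have hca' : a ∈ nb D c := nb_symm ha.1 hc'
  have he' : OnLine D c a e := ⟨he.1, by rw [B_comm]; exact he.2⟩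
  rw [H.B_eq_of_onLine hc.1 hca' he' hec] at h1
  exact hab h1.2.2.symm

theorem five_or_quad (hs : SolvRes D) : Nonempty (G ≃* Equiv.Perm (Fin 5)) ∨ Quad D := by
  by_cases hthin : ∀ x ∈ D, ∀ a ∈ nb D x, ∀ c, OnLine D x a c → c = x ∨ c = a
  · exact Or.inl (H.five_of_thin hs hthin)
  push Not at hthin
  obtain ⟨x, hx, a, ha, c, hl, hcx, hca⟩ := hthin
  have hbig : ∀ p ∈ D, ∀ q ∈ nb D p, ∃ r, OnLine D p q r ∧ r ≠ p ∧ r ≠ q := by
    intro p hp q hq
    obtain ⟨g, rfl, rfl⟩ := H.exists_cj_pair hx ha hp hq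
    exact ⟨cj g c, (H.onLine_cj g).2 hl, fun e => hcx (cj_injective g e),
      fun e => hca (cj_injective g e)⟩
  refine Or.inr { toCls := H, tri := fun p hp q hq r r' hr hr' => ?_, big := fun p hp q hq => ?_ }
  · by_cases hrp : r = p
    · exact hrp ▸ hr'.2.1.symm
    by_cases hrq : r = q
    · exact hrq ▸ hr'.2.2.symm
    exact (H.triangle hs hbig hp hq ⟨hr.1, hrp, hr.2.1.symm⟩ hrq hr.2.2.symm).2 r' hr'
  · obtain ⟨r, hr, hrp, hrq⟩ := hbig p hp q hq
    exact ⟨r, ⟨hr.1, hr.2 p (H.left_mem_B hp hq), hr.2 q (H.right_mem_B hq)⟩, hrp, hrq⟩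

end Cls

end Cfsg.Agent.H80.TTQuad
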