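import Cfsg.Agent.H80.TTQuad.Glue

/-!
Groups with the same parameters are isomorphic: a linked pair of residues extends to a bijection
of the classes preserving commutation, hence third points, hence to an isomorphism of the groups.
-/

set_option autoImplicit false
set_option linter.unusedSectionVars false

namespace Cfsg.Agent.H80.TTQuad

open Cfsg
open H76.LocallyS3 (nb cj cj_cj cj_injective commute_cj_iff)

universe u v

variable {G : Type u} [Group G] {D : Set G} {G' : Type v} [Group G'] {D' : Set G'}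

/-- The extension of linked pairs to the whole classes. -/
def full (x f : G) (x' f' : G') (Θ : Set (G × G')) : Set (G × G') :=
  insert (x, x') Θ ∪ {p | ∃ g ∈ Subgroup.closure (insert (x, x') Θ), cj g (f, f') = p}

theorem full_swap {x f : G} {x' f' : G'} {Θ : Set (G × G')} {p : G × G'}
    (hp : p ∈ full x f x' f' Θ) : p.swap ∈ full x' f' x f (Prod.swap ⁻¹' Θ) := by
  rcases hp with (rfl | hp) | ⟨g, hg, rfl⟩
  · exact Or.inl (Or.inl rfl)
  · exact Or.inl (Or.inr (by show p.swap.swap ∈ Θ; rwa [Prod.swap_swap]))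
  · refine Or.inr ⟨g.swap, Subgroup.closure_mono ?_ (swap_mem_closure hg), rfl⟩
    rintro q (h | h)
    · left; rw [← q.swap_swap, h]; rfl
    · exact Or.inr h

namespace Link

variable [Finite G] [Finite G'] {n s : ℕ} {x f : G} {x' f' : G'} {Θ : Set (G × G')}
  (L : Link D D' n s x f x' f' Θ)
include L

theorem commute_x {g : G × G'} (hg : g ∈ Subgroup.closure (insert (x, x') Θ)) :
    Commute g (x, x') :=
  Subgroup.closure_induction (fun z hz => by
    rcases hz with rfl | hz
    exacts [Commute.refl _, (L.commute_xi hz).symm]) (Commute.one_left _)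
    (fun _ _ _ _ h h' => h.mul_left h') (fun _ _ h => h.inv_left) hg

theorem fst_mem {g : G × G'} (hg : g ∈ Subgroup.closure (insert (x, x') Θ)) :
    g.1 ∈ Subgroup.closure (insert x (nb D x)) := by
  have hle : Subgroup.closure (insert (x, x') Θ) ≤
      (Subgroup.closure (insert x (nb D x))).comap (MonoidHom.fst G G') := by
    refine (Subgroup.closure_le _).2 ?_
    rintro p (rfl | hp)
    · exact Subgroup.subset_closure (Or.inl rfl)
    · exact Subgroup.subset_closure (Or.inr (L.mem p hp))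
  exact hle hg

theorem exists_linked {g : G} (hg : g ∈ Subgroup.closure (insert x (nb D x))) :
    ∃ g', (g, g') ∈ Subgroup.closure (insert (x, x') Θ) := by
  have hle : Subgroup.closure (insert x (nb D x)) ≤
      (Subgroup.closure (insert (x, x') Θ)).map (MonoidHom.fst G G') := by
    refine (Subgroup.closure_le _).2 ?_
    rintro y (rfl | hy)
    · exact ⟨(y, x'), Subgroup.subset_closure (Or.inl rfl), rfl⟩
    · obtain ⟨y', hy'⟩ := L.total y hy
      exact ⟨(y, y'), Subgroup.subset_closure (Or.inr hy'), rfl⟩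
  obtain ⟨p, hp, rfl⟩ := hle hg
  exact ⟨p.2, hp⟩

theorem linked_ext {g h : G × G'} (hg : g ∈ Subgroup.closure (insert (x, x') Θ))
    (hh : h ∈ Subgroup.closure (insert (x, x') Θ)) (he : g.1 = h.1) : g = h := by
  have h2 := L.linked_props.1 _ (mul_mem (inv_mem hg) hh) (by
    show g.1⁻¹ * h.1 = 1
    rw [he, inv_mul_cancel])
  exact Prod.ext he (inv_mul_eq_one.1 (show g.2⁻¹ * h.2 = 1 from h2))

theorem cj_linked_mem {g p : G × G'} (hg : g ∈ Subgroup.closure (insert (x, x') Θ)) (hp : p ∈ Θ) :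
    cj g p ∈ Θ := by
  refine cj_mem_of_closure (fun a ha w hw => ?_) hg hp
  rcases ha with rfl | ha
  · rwa [cj_eq_of_commute (L.commute_xi hw)]
  · exact L.cj_mem ha hw

/-- A linked element fixing `f` fixes `f'`. -/
theorem fix_linked {g : G × G'} (hg : g ∈ Subgroup.closure (insert (x, x') Θ))
    (h : cj g.1 f = f) : cj g.2 f' = f' := by
  have hkf := L.linked_props.2 _ (L.fst_mem hg) h
  have hle : Subgroup.closure (T D x f) ≤
      (Subgroup.closure {p : G × G' | p ∈ Θ ∧ p.1 ∈ T D x f}).map (MonoidHom.fst G G') := by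
    refine (Subgroup.closure_le _).2 fun t ht => ?_
    obtain ⟨t', ht'⟩ := L.total t ht.1
    exact ⟨(t, t'), Subgroup.subset_closure ⟨ht', ht⟩, rfl⟩
  obtain ⟨k, hk, hk1⟩ := hle hkf
  have hkm : k ∈ Subgroup.closure (insert (x, x') Θ) :=
    Subgroup.closure_mono (fun p hp => Or.inr hp.1) hk
  obtain rfl := L.linked_ext hkm hg hk1
  have hk2 : k.2 ∈ Subgroup.closure (T D' x' f') := by
    have hle2 : Subgroup.closure {p : G × G' | p ∈ Θ ∧ p.1 ∈ T D x f} ≤
        (Subgroup.closure (T D' x' f')).comap (MonoidHom.snd G G') :=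
      (Subgroup.closure_le _).2 fun p hp => Subgroup.subset_closure ((L.mapT p hp.1).1 hp.2)
    exact hle2 hk
  exact cj_eq_of_commute (L.quad'.commute_of_mem_closure_T hk2).2

theorem far_mem {g : G × G'} (hg : g ∈ Subgroup.closure (insert (x, x') Θ)) :
    cj g.1 f ∈ far D x := by
  refine ⟨L.quad.mem_cj _ L.hf.1, fun h => L.hf.2 ?_⟩
  have hc : cj g.1 x = x := cj_eq_of_commute ((L.commute_x hg).map (MonoidHom.fst G G'))
  rw [← hc] at h
  exact commute_cj_iff.1 h

theorem mem_full {p : G × G'} (hp : p ∈ full x f x' f' Θ) : p.1 ∈ D := by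
  rcases hp with (rfl | hp) | ⟨g, hg, rfl⟩
  exacts [L.hx, (L.mem p hp).1, (L.far_mem hg).1]

theorem total_full {y : G} (hy : y ∈ D) : ∃ y', (y, y') ∈ full x f x' f' Θ := by
  by_cases hxy : Commute x y
  · by_cases e : y = x
    · exact ⟨x', Or.inl (Or.inl (by rw [e]))⟩
    · obtain ⟨y', hy'⟩ := L.total y ⟨hy, e, hxy⟩
      exact ⟨y', Or.inl (Or.inr hy')⟩
  · have ho : y ∈ cjOrb (Subgroup.closure (insert x (nb D x))) f := by
      rw [L.quad.orbit_far L.par L.hn L.hx L.hf]
      exact ⟨hy, hxy⟩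
    obtain ⟨g, hg, rfl⟩ := ho
    obtain ⟨g', hg'⟩ := L.exists_linked hg
    exact ⟨cj g' f', Or.inr ⟨(g, g'), hg', rfl⟩⟩

theorem inj_full {p q : G × G'} (hp : p ∈ full x f x' f' Θ) (hq : q ∈ full x f x' f' Θ)
    (h : p.1 = q.1) : p.2 = q.2 := by
  rcases hp with (rfl | hp) | ⟨g, hg, rfl⟩ <;> rcases hq with (rfl | hq) | ⟨k, hk, rfl⟩
  · rfl
  · exact absurd h.symm (L.mem q hq).2.1
  · exact absurd ((show x = cj k.1 f from h) ▸ Commute.refl x) (L.far_mem hk).2
  · exact absurd h (L.mem p hp).2.1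
  · exact L.inj p hp q hq h
  · exact absurd ((show p.1 = cj k.1 f from h) ▸ (L.mem p hp).2.2) (L.far_mem hk).2
  · exact absurd ((show cj g.1 f = x from h).symm ▸ Commute.refl x) (L.far_mem hg).2
  · exact absurd ((show cj g.1 f = q.1 from h) ▸ (L.mem q hq).2.2) (L.far_mem hg).2
  · have h2 : cj (g.2⁻¹ * k.2) f' = f' := L.fix_linked (mul_mem (inv_mem hg) hk) (by
      show cj (g.1⁻¹ * k.1) f = f
      rw [← cj_cj, ← (show cj g.1 f = cj k.1 f from h), cj_inv_cj])
    show cj g.2 f' = cj k.2 f'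
    conv_lhs => rw [← h2, cj_cj, mul_inv_cancel_left]

theorem comm_full {p q : G × G'} (hp : p ∈ full x f x' f' Θ) (hq : q ∈ full x f x' f' Θ)
    (h : Commute p.1 q.1) : Commute p.2 q.2 := by
  have hmix : ∀ {p g : G × G'}, p ∈ insert (x, x') Θ →
      g ∈ Subgroup.closure (insert (x, x') Θ) → Commute p.1 (cj g.1 f) → Commute p.2 (cj g.2 f') := by
    intro p g hp hg h
    rcases hp with rfl | hp
    · exact absurd h (L.far_mem hg).2
    have hm : cj g⁻¹ p ∈ Θ := L.cj_linked_mem (inv_mem hg) hp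
    have h1 : Commute (cj g.1⁻¹ p.1) f := by
      have h2 := (commute_cj_iff (g := g.1⁻¹)).2 h
      rwa [cj_inv_cj] at h2
    have hT : (cj g⁻¹ p).1 ∈ T D x f := mem_T_of_commute L.hf.2 (L.mem _ hm).1 (L.mem _ hm).2.2 h1.symm
    have h3 : Commute (cj g.2⁻¹ p.2) f' := (((L.mapT _ hm).1 hT).2.2.2).symm
    have h4 := (commute_cj_iff (g := g.2)).2 h3
    rwa [cj_cj_inv] at h4
  rcases hp with hp | ⟨g, hg, rfl⟩ <;> rcases hq with hq | ⟨k, hk, rfl⟩
  · rcases hp with rfl | hp <;> rcases hq with rfl | hq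
    · exact Commute.refl _
    · exact (L.mem' q hq).2.2
    · exact (L.mem' p hp).2.2.symm
    · exact (L.comm p hp q hq).1 h
  · exact hmix hp hk h
  · exact (hmix hq hg h.symm).symm
  · -- two points not commuting with `x`
    have hm := mul_mem (inv_mem hg) hk
    have h1 : Commute f (cj (g⁻¹ * k).1 f) := by
      have h2 := (commute_cj_iff (g := g.1⁻¹)).2 (show Commute (cj g.1 f) (cj k.1 f) from h)
      rwa [cj_inv_cj, cj_cj] at h2
    suffices h5 : Commute f' (cj (g⁻¹ * k).2 f') by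
      have h6 := (commute_cj_iff (g := g.2)).2 h5
      rwa [show (g⁻¹ * k).2 = g.2⁻¹ * k.2 from rfl, cj_cj, mul_inv_cancel_left] at h6
    by_cases he : cj (g⁻¹ * k).1 f = f
    · rw [L.fix_linked hm he]
    obtain ⟨c, hc, hce⟩ :=
      L.quad.exists_near L.hx L.hf ⟨(L.far_mem hm).1, he, h1⟩ (L.far_mem hm).2
    obtain ⟨c', hc'⟩ := L.total c hc
    have hcx : (c * x, c' * x') ∈ Subgroup.closure (insert (x, x') Θ) :=
      mul_mem (Subgroup.subset_closure (Or.inr hc') :
        (c, c') ∈ Subgroup.closure (insert (x, x') Θ))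
        (Subgroup.subset_closure (Or.inl rfl) : (x, x') ∈ _)
    have hee : cj (c' * x') f' = cj (g⁻¹ * k).2 f' :=
      L.inj_full (p := cj (c * x, c' * x') (f, f')) (q := cj (g⁻¹ * k) (f, f'))
        (Or.inr ⟨_, hcx, rfl⟩) (Or.inr ⟨_, hm, rfl⟩) hce
    rw [← hee]
    -- the trace of `c` centres the move
    obtain ⟨t, ht, htT, hct⟩ := L.exists_trace hc'
    have htn := L.mem' t ht
    have hct' : Commute c' t.2 := (L.comm _ hc' t ht).1 hct
    have hft : f' ∈ nb D' t.2 := by
      have h2 := ((L.mapT t ht).1 htT).2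
      exact nb_symm L.symm.hf.1 h2
    have hxt : x' ∈ nb D' t.2 := nb_symm L.symm.hx htn
    have hcn := L.mem' _ hc'
    by_cases hcte : c' = t.2
    · exfalso
      have hte : c = t.1 := L.inj' _ hc' t ht hcte
      have hfx : Commute t.1 (cj x f) :=
        ((L.mem t ht).2.2.symm.mul_right htT.2.2.2.symm).mul_right (L.mem t ht).2.2.symm.inv_right
      rw [← hce, ← cj_cj, hte, cj_eq_of_commute hfx] at h1
      exact (L.quad.not_commute_cj L.hx L.hf.1 L.hf.2).1 h1
    · exact (L.quad'.pair_move htn.1 hft ⟨hcn.1, hcte, hct'.symm⟩ hxt hcn.2.2.symm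
        fun h => hcte (L.quad'.T_eq_of_commute L.symm.hx L.symm.hf
          (mem_T_of_commute L.symm.hf.2 hcn.1 hcn.2.2 h) ((L.mapT t ht).1 htT) hct')).2.1

theorem total_full' {y : G'} (hy : y ∈ D') : ∃ z, (z, y) ∈ full x f x' f' Θ := by
  obtain ⟨z, hz⟩ := L.symm.total_full hy
  have h := full_swap hz
  rw [show Prod.swap ⁻¹' (Prod.swap ⁻¹' Θ) = Θ from Set.ext fun p => by simp] at h
  exact ⟨z, h⟩

theorem inj_full' {p q : G × G'} (hp : p ∈ full x f x' f' Θ) (hq : q ∈ full x f x' f' Θ)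
    (h : p.2 = q.2) : p.1 = q.1 := L.symm.inj_full (full_swap hp) (full_swap hq) h

theorem comm_full' {p q : G × G'} (hp : p ∈ full x f x' f' Θ) (hq : q ∈ full x f x' f' Θ)
    (h : Commute p.2 q.2) : Commute p.1 q.1 := L.symm.comm_full (full_swap hp) (full_swap hq) h

/-- The bijection of the classes preserves third points. -/
theorem cj_mem_full {p q : G × G'} (hp : p ∈ full x f x' f' Θ) (hq : q ∈ full x f x' f' Θ) :
    cj p q ∈ full x f x' f' Θ := by
  have Q := L.quad
  have hpD := L.mem_full hp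
  have hqD := L.mem_full hq
  by_cases hc : Commute p.1 q.1
  · have h : cj p q = q := Prod.ext (cj_eq_of_commute hc) (cj_eq_of_commute (L.comm_full hp hq hc))
    rwa [h]
  have hpD' : p.2 ∈ D' := L.symm.mem_full (full_swap hp)
  have hqD' : q.2 ∈ D' := L.symm.mem_full (full_swap hq)
  have hc' : ¬ Commute p.2 q.2 := fun h => hc (L.comm_full' hp hq h)
  obtain ⟨z', hz⟩ := L.total_full (Q.mem_cj p.1 hqD)
  have hzD' : z' ∈ D' := L.symm.mem_full (full_swap hz)
  suffices h : z' = cj p.2 q.2 by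
    rw [h] at hz
    exact hz
  rcases L.quad'.common_perp L.par' hpD' ⟨hqD', hc'⟩ L.hn hzD' (fun t ht => by
    obtain ⟨u, hu⟩ := L.total_full' ht.1.1
    have h1 : Commute p.1 u := L.comm_full' hp hu ht.1.2.2
    have h2 : Commute q.1 u := L.comm_full' hq hu ht.2.2.2
    exact L.comm_full hz hu ((h1.mul_left h2).mul_left h1.inv_left : Commute (cj p.1 q.1) u))
    with h | h | h
  · have h1 : cj p.1 q.1 = p.1 := L.inj_full' hz hp h
    refine absurd ?_ (Q.not_commute_cj hpD hqD hc).2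
    exact h1.symm ▸ Commute.refl p.1
  · have h1 : cj p.1 q.1 = q.1 := L.inj_full' hz hq h
    refine absurd ?_ (Q.not_commute_cj hpD hqD hc).1
    exact h1.symm ▸ Commute.refl q.1
  · exact h

theorem cj_closure_full {g p : G × G'} (hg : g ∈ Subgroup.closure (full x f x' f' Θ))
    (hp : p ∈ full x f x' f' Θ) : cj g p ∈ full x f x' f' Θ :=
  cj_mem_of_closure (fun _ ha _ hw => L.cj_mem_full ha hw) hg hp

theorem closure_full_fst {g : G × G'} (hg : g ∈ Subgroup.closure (full x f x' f' Θ))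
    (h : g.1 = 1) : g.2 = 1 :=
  L.quad'.eq_one_of_fix fun y hy => by
    obtain ⟨z, hz⟩ := L.total_full' hy
    refine (L.inj_full (L.cj_closure_full hg hz) hz ?_)
    show cj g.1 z = z
    rw [h, cj_one]

theorem closure_full_snd {g : G × G'} (hg : g ∈ Subgroup.closure (full x f x' f' Θ))
    (h : g.2 = 1) : g.1 = 1 := by
  refine L.symm.closure_full_fst (g := g.swap) (Subgroup.closure_mono (fun q hq => ?_)
    (swap_mem_closure hg)) h
  have h2 := full_swap (p := q.swap) hq
  rwa [Prod.swap_swap] at h2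

theorem nonempty_mulEquiv : Nonempty (G ≃* G') := by
  set Δ := Subgroup.closure (full x f x' f' Θ) with hΔ
  let π₁ := (MonoidHom.fst G G').comp Δ.subtype
  let π₂ := (MonoidHom.snd G G').comp Δ.subtype
  have h1 : Function.Bijective π₁ := by
    refine ⟨(injective_iff_map_eq_one π₁).2 fun g hg =>
      Subtype.ext (Prod.ext hg (L.closure_full_fst g.2 hg)), MonoidHom.range_eq_top.1 ?_⟩
    rw [eq_top_iff, ← L.quad.cl.2.2, Subgroup.closure_le]
    intro y hy
    obtain ⟨z, hz⟩ := L.total_full hy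
    exact ⟨⟨(y, z), Subgroup.subset_closure hz⟩, rfl⟩
  have h2 : Function.Bijective π₂ := by
    refine ⟨(injective_iff_map_eq_one π₂).2 fun g hg =>
      Subtype.ext (Prod.ext (L.closure_full_snd g.2 hg) hg), MonoidHom.range_eq_top.1 ?_⟩
    rw [eq_top_iff, ← L.quad'.cl.2.2, Subgroup.closure_le]
    intro y hy
    obtain ⟨z, hz⟩ := L.total_full' hy
    exact ⟨⟨(z, y), Subgroup.subset_closure hz⟩, rfl⟩
  exact ⟨(MulEquiv.ofBijective π₁ h1).symm.trans (MulEquiv.ofBijective π₂ h2)⟩

end Link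

/-- The parameters determine the group. -/
theorem nonempty_iso [Finite G] [Finite G'] {n s : ℕ} (Q : Quad D) (Q' : Quad D')
    (P : Param D n s) (P' : Param D' n s) : Nonempty (G ≃* G') := by
  obtain ⟨x, hx⟩ := Q.nonempty
  obtain ⟨f, hf, hxf⟩ := Q.exists_noncommute hx
  obtain ⟨x', hx'⟩ := Q'.nonempty
  obtain ⟨f', hf', hxf'⟩ := Q'.exists_noncommute hx'
  obtain ⟨Θ, L⟩ := exists_link Q Q' P P' (Q.param_cases P) hx ⟨hf, hxf⟩ hx' ⟨hf', hxf'⟩
  exact L.nonempty_mulEquiv

end Cfsg.Agent.H80.TTQuad
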