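import Cfsg.Agent.H80.TTQuad.Trace

/-!
Two residues of the same parameters are linked by a bijection of their members that preserves
commutation and third points.
-/

set_option autoImplicit false
set_option linter.unusedSectionVars false

namespace Cfsg.Agent.H80.TTQuad

open Cfsg
open H76.LocallyS3 (nb cj cj_cj cj_injective commute_cj_iff)

universe u v

variable {G : Type u} [Group G] {D : Set G} {G' : Type v} [Group G'] {D' : Set G'}

theorem cj_fst (g p : G × G') : (cj g p).1 = cj g.1 p.1 := rfl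

theorem cj_snd (g p : G × G') : (cj g p).2 = cj g.2 p.2 := rfl

theorem swap_mem_closure {S : Set (G × G')} {p : G × G'} (h : p ∈ Subgroup.closure S) :
    p.swap ∈ Subgroup.closure (Prod.swap ⁻¹' S) := by
  have hle : Subgroup.closure S ≤
      (Subgroup.closure (Prod.swap ⁻¹' S)).comap (MulEquiv.prodComm).toMonoidHom := by
    refine (Subgroup.closure_le _).2 fun q hq => ?_
    show q.swap ∈ Subgroup.closure (Prod.swap ⁻¹' S)
    refine Subgroup.subset_closure ?_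
    show q.swap.swap ∈ S
    rwa [Prod.swap_swap]
  exact hle h

/-- A bijection between the members commuting with `x` and those commuting with `x'` which maps
the members commuting with `f` to those commuting with `f'`, preserves commutation and is
equivariant for the groups these members generate. -/
structure Link (D : Set G) (D' : Set G') (n s : ℕ) (x f : G) (x' f' : G')
    (Θ : Set (G × G')) : Prop where
  quad : Quad D
  quad' : Quad D'
  par : Param D n s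
  par' : Param D' n s
  cases : (n = 3 ∧ s = 2) ∨ (n = 3 ∧ s = 4) ∨ (n = 9 ∧ s = 4)
  frame : ∃ a b d R, Frame D n s x f a b d R
  frame' : ∃ a b d R, Frame D' n s x' f' a b d R
  mem : ∀ p ∈ Θ, p.1 ∈ nb D x
  mem' : ∀ p ∈ Θ, p.2 ∈ nb D' x'
  total : ∀ y ∈ nb D x, ∃ y', (y, y') ∈ Θ
  total' : ∀ y' ∈ nb D' x', ∃ y, (y, y') ∈ Θ
  inj : ∀ p ∈ Θ, ∀ q ∈ Θ, p.1 = q.1 → p.2 = q.2
  inj' : ∀ p ∈ Θ, ∀ q ∈ Θ, p.2 = q.2 → p.1 = q.1
  mapT : ∀ p ∈ Θ, (p.1 ∈ T D x f ↔ p.2 ∈ T D' x' f')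
  comm : ∀ p ∈ Θ, ∀ q ∈ Θ, (Commute p.1 q.1 ↔ Commute p.2 q.2)
  equiv : ∀ p ∈ Θ, p.1 ∈ T D x f → ∀ q ∈ Θ, cj p q ∈ Θ
  graph : ∀ k ∈ Subgroup.closure {p : G × G' | p ∈ Θ ∧ p.1 ∈ T D x f}, k.1 = 1 ↔ k.2 = 1

namespace Link

variable {n s : ℕ} {x f : G} {x' f' : G'} {Θ : Set (G × G')} (L : Link D D' n s x f x' f' Θ)
include L

theorem symm : Link D' D n s x' f' x f (Prod.swap ⁻¹' Θ) where
  quad := L.quad'
  quad' := L.quad
  par := L.par'
  par' := L.par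
  cases := L.cases
  frame := L.frame'
  frame' := L.frame
  mem p hp := L.mem' p.swap hp
  mem' p hp := L.mem p.swap hp
  total := L.total'
  total' := L.total
  inj p hp q hq h := L.inj' p.swap hp q.swap hq h
  inj' p hp q hq h := L.inj p.swap hp q.swap hq h
  mapT p hp := (L.mapT p.swap hp).symm
  comm p hp q hq := (L.comm p.swap hp q.swap hq).symm
  equiv p hp h q hq := L.equiv p.swap hp ((L.mapT p.swap hp).2 h) q.swap hq
  graph k hk := by
    have h := L.graph k.swap ?_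
    · exact h.symm
    refine Subgroup.closure_mono ?_ (swap_mem_closure hk)
    rintro p ⟨h1, h2⟩
    change p.swap.swap ∈ Θ at h1
    rw [Prod.swap_swap] at h1
    exact ⟨h1, (L.mapT p h1).2 h2⟩

theorem hx : x ∈ D := by obtain ⟨a, b, d, R, F⟩ := L.frame; exact F.hx

theorem hf : f ∈ far D x := by obtain ⟨a, b, d, R, F⟩ := L.frame; exact F.hf

theorem hn : n = 3 ∨ (n = 9 ∧ s = 4) :=
  L.cases.elim (fun h => Or.inl h.1) fun h => h.elim (fun h => Or.inl h.1) Or.inr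

theorem ext {p q : G × G'} (hp : p ∈ Θ) (hq : q ∈ Θ) (h : p.1 = q.1) : p = q :=
  Prod.ext h (L.inj p hp q hq h)

theorem commute_pair {p q : G × G'} (hp : p ∈ Θ) (hq : q ∈ Θ) (h : Commute p.1 q.1) : Commute p q :=
  Prod.ext h.eq ((L.comm p hp q hq).1 h).eq

theorem sq_pair {p : G × G'} (hp : p ∈ Θ) : p * p = 1 :=
  Prod.ext (L.quad.sq (L.mem p hp).1) (L.quad'.sq (L.mem' p hp).1)

theorem inv_pair {p : G × G'} (hp : p ∈ Θ) : p⁻¹ = p :=
  inv_eq_of_mul_eq_one_right (L.sq_pair hp)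

theorem exists_trace [Finite G] {p : G × G'} (hp : p ∈ Θ) :
    ∃ t ∈ Θ, t.1 ∈ T D x f ∧ Commute p.1 t.1 := by
  obtain ⟨t, ht, hpt⟩ := L.quad.exists_T L.hx L.hf (L.mem p hp)
  obtain ⟨t', htt⟩ := L.total t ht.1
  exact ⟨(t, t'), htt, ht, hpt⟩

variable [Finite G] [Finite G']

/-- The bijection preserves third points. -/
theorem cj_mem {p q : G × G'} (hp : p ∈ Θ) (hq : q ∈ Θ) : cj p q ∈ Θ := by
  have Q := L.quad
  have Q' := L.quad'
  have hx := L.hx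
  have hx' := L.symm.hx
  by_cases hc : Commute p.1 q.1
  · have h : cj p q = q := cj_eq_of_commute (L.commute_pair hp hq hc)
    rwa [h]
  have hc' : ¬ Commute p.2 q.2 := fun h => hc ((L.comm p hp q hq).2 h)
  by_cases hpT : p.1 ∈ T D x f
  · exact L.equiv p hp hpT q hq
  by_cases hqT : q.1 ∈ T D x f
  · have h := L.equiv q hq hqT p hp
    rwa [show cj q p = cj p q from Prod.ext (Q.braid (L.mem q hq).1 (L.mem p hp).1 fun h => hc h.symm)
      (Q'.braid (L.mem' q hq).1 (L.mem' p hp).1 fun h => hc' h.symm)] at h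
  obtain ⟨t, ht, htT, hpt⟩ := L.exists_trace hp
  obtain ⟨u, hu, huT, hqu⟩ := L.exists_trace hq
  have hpt' := (L.comm p hp t ht).1 hpt
  have hqu' := (L.comm q hq u hu).1 hqu
  have hpn := L.mem p hp
  have hqn := L.mem q hq
  have htu : ¬ Commute t.1 u.1 := fun h => hc
    (Q.comm_trans hx hpn (L.mem t ht) hqn hpt
      (Q.comm_trans hx (L.mem t ht) (L.mem u hu) hqn h hqu.symm))
  have hpu : ¬ Commute p.1 u.1 := fun h => hc (Q.comm_trans hx hpn (L.mem u hu) hqn h hqu.symm)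
  have htq : ¬ Commute t.1 q.1 := fun h => hc (Q.comm_trans hx hpn (L.mem t ht) hqn hpt h)
  have hpu' : ¬ Commute p.2 u.2 := fun h => hpu ((L.comm p hp u hu).2 h)
  have htq' : ¬ Commute t.2 q.2 := fun h => htq ((L.comm t ht q hq).2 h)
  have htu' : ¬ Commute t.2 u.2 := fun h => htu ((L.comm t ht u hu).2 h)
  set r := cj t u with hr
  have hrΘ : r ∈ Θ := L.equiv t ht htT u hu
  have hP0 : cj p u ∈ Θ := by
    have h := L.equiv u hu huT p hp
    rwa [show cj u p = cj p u from Prod.ext (Q.braid (L.mem u hu).1 hpn.1 fun h => hpu h.symm)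
      (Q'.braid (L.mem' u hu).1 (L.mem' p hp).1 fun h => hpu' h.symm)] at h
  have hQ0 : cj t q ∈ Θ := L.equiv t ht htT q hq
  obtain ⟨z', hz⟩ := L.total (cj p.1 q.1) (Q.cj_mem_nb hpn.2.2.symm hqn)
  suffices h : z' = cj p.2 q.2 by
    rw [h] at hz
    exact hz
  by_cases heq : cj p.1 u.1 = cj t.1 q.1
  · -- the straight third points agree
    have h1 := square (Q.sq hpn.1) (Q.sq (L.mem t ht).1) hpt heq
    have heq' : cj p.2 u.2 = cj t.2 q.2 := L.inj _ hP0 _ hQ0 heq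
    have h2 := square (Q'.sq (L.mem' p hp).1) (Q'.sq (L.mem' t ht).1) hpt' heq'
    rw [h2]
    exact L.inj _ hz _ hrΘ h1
  -- five points on the line of the third point
  have main : ∀ {H : Type _} [Group H] [Finite H] {E : Set H}, Quad E → Param E n s → ∀ {y : H},
      y ∈ E → ∀ {p q t u w : H}, p ∈ nb E y → q ∈ nb E y → t ∈ nb E y → u ∈ nb E y →
        w ∈ B E y (cj t u) → w ≠ y → w ≠ cj t u → w ≠ cj p u → w ≠ cj t q → Commute p t →
        Commute q u → ¬ Commute p q → ¬ Commute p u → ¬ Commute t q → ¬ Commute t u →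
        cj p u ≠ cj t q → u ≠ q → t ≠ p → w = cj p q := by
    intro H _ _ E Q P y hy p q t u w hp hq ht hu hw w1 w2 w3 w4 hpt hqu hc hpu htq htu hne huq htp
    have hr : cj t u ∈ nb E y := Q.cj_mem_nb ht.2.2.symm hu
    have m1 : Commute (cj p u) (cj t u) := by
      rw [Q.braid hp.1 hu.1 hpu, Q.braid ht.1 hu.1 htu]; exact commute_cj_iff.2 hpt
    have m2 : Commute (cj t q) (cj t u) := commute_cj_iff.2 hqu
    have m3 : Commute (cj p q) (cj p u) := commute_cj_iff.2 hqu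
    have n1 := Q.cj_mem_nb hp.2.2.symm hu
    have n2 := Q.cj_mem_nb ht.2.2.symm hq
    have n3 := Q.cj_mem_nb hp.2.2.symm hq
    have m4 : Commute (cj p q) (cj t u) := Q.comm_trans hy n3 n1 hr m3 m1
    by_contra hwz
    have hsub : ({w, cj p q, cj t u, cj p u, cj t q, y} : Set H) ⊆ B E y (cj t u) := by
      rintro v (rfl | rfl | rfl | rfl | rfl | rfl)
      exacts [hw, ⟨n3.1, n3.2.2.symm, m4⟩, Q.right_mem_B hr, ⟨n1.1, n1.2.2.symm, m1⟩,
        ⟨n2.1, n2.2.2.symm, m2⟩, Q.left_mem_B hy hr]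
    have e1 : cj p q ≠ cj t u := fun e => hne (square (Q.sq hp.1) (Q.sq ht.1) hpt e)
    have e2 : cj p q ≠ cj p u := fun e => huq (cj_injective p e).symm
    have e3 : cj p q ≠ cj t q := fun e => by
      rw [Q.braid hp.1 hq.1 hc, Q.braid ht.1 hq.1 htq] at e
      exact htp (cj_injective q e).symm
    have e4 : cj t u ≠ cj p u := fun e => by
      rw [Q.braid ht.1 hu.1 htu, Q.braid hp.1 hu.1 hpu] at e
      exact htp (cj_injective u e)
    have e5 : cj t u ≠ cj t q := fun e => huq (cj_injective t e)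
    have hle := Set.ncard_le_ncard hsub (Set.toFinite _)
    rw [P.line y hy _ hr,
      Set.ncard_insert_of_notMem (by simp [hwz, w1, w2, w3, w4]) (Set.toFinite _),
      Set.ncard_insert_of_notMem (by simp [e1, e2, e3, n3.2.1]) (Set.toFinite _),
      Set.ncard_insert_of_notMem (by simp [e4, e5, hr.2.1]) (Set.toFinite _),
      Set.ncard_eq_three.2 ⟨_, _, _, hne, n1.2.1, n2.2.1, rfl⟩] at hle
    rcases L.cases with ⟨-, rfl⟩ | ⟨-, rfl⟩ | ⟨-, rfl⟩ <;> omega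
  have hz1 : Commute (cj p.1 q.1) r.1 := by
    have m1 : Commute (cj p.1 u.1) r.1 := by
      rw [hr, cj_fst, Q.braid hpn.1 (L.mem u hu).1 hpu, Q.braid (L.mem t ht).1 (L.mem u hu).1 htu]
      exact commute_cj_iff.2 hpt
    exact Q.comm_trans hx (L.mem _ hz) (L.mem _ hP0) (L.mem _ hrΘ) (commute_cj_iff.2 hqu) m1
  have huq : u.1 ≠ q.1 := fun e => hqT (e ▸ huT)
  have htp : t.1 ≠ p.1 := fun e => hpT (e ▸ htT)
  have hz' := L.mem' _ hz
  refine main Q' L.par' hx' (L.mem' p hp) (L.mem' q hq) (L.mem' t ht) (L.mem' u hu)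
    ⟨hz'.1, hz'.2.2.symm, (L.comm _ hz _ hrΘ).1 hz1⟩ hz'.2.1 ?_ ?_ ?_ hpt' hqu' hc' hpu' htq' htu'
    (fun e => heq (L.inj' _ hP0 _ hQ0 e)) (fun e => huq (L.inj' _ hu _ hq e))
    (fun e => htp (L.inj' _ ht _ hp e))
  · intro e
    exact heq (square (Q.sq hpn.1) (Q.sq (L.mem t ht).1) hpt (L.inj' _ hz _ hrΘ e))
  · intro e
    exact huq (cj_injective p.1 (L.inj' _ hz _ hP0 e)).symm
  · intro e
    have h : cj p.1 q.1 = cj t.1 q.1 := L.inj' _ hz _ hQ0 e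
    rw [Q.braid hpn.1 hqn.1 hc, Q.braid (L.mem t ht).1 hqn.1 htq] at h
    exact htp (cj_injective q.1 h).symm

end Link

/-- The members matched by a graph of generators and a matching of representatives. -/
def matched (S : Set G) (Δ : Subgroup (G × G')) (E : Set (G × G')) : Set (G × G') :=
  {p | p ∈ Δ ∧ p.1 ∈ S} ∪ {p | ∃ g ∈ Δ, ∃ r ∈ E, cj g r = p}

theorem closure_T_eq [Finite G] (Q : Quad D) {n s : ℕ} {x f a b d : G} {R : Set G}
    (F : Frame D n s x f a b d R) :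
    Subgroup.closure (T D x f) = Subgroup.closure ({a, b, d} : Set G) := by
  have hsub : ({a, b, d} : Set G) ⊆ T D x f := by
    rintro w (rfl | rfl | rfl)
    exacts [F.ha, F.hb, F.hd]
  refine le_antisymm ((Subgroup.closure_le _).2 ?_) (Subgroup.closure_mono hsub)
  have h := F.gen (T D x f ∩ Subgroup.closure ({a, b, d} : Set G)) Set.inter_subset_left
    (fun u hu v hv => ⟨Q.T_cj hu.1 hv.1, mul_mem (mul_mem hu.2 hv.2) (inv_mem hu.2)⟩)
    ⟨F.ha, Subgroup.subset_closure (Or.inl rfl)⟩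
    ⟨F.hb, Subgroup.subset_closure (Or.inr (Or.inl rfl))⟩
    ⟨F.hd, Subgroup.subset_closure (Or.inr (Or.inr rfl))⟩
  exact fun w hw => (h.symm ▸ hw : w ∈ T D x f ∩ _).2

section graph

variable [Finite G] [Finite G'] {n s : ℕ} {x f a b d : G} {R : Set G} {x' f' a' b' d' : G'}
  {R' : Set G'} (Q : Quad D) (Q' : Quad D') (hn : n = 3 ∨ (n = 9 ∧ s = 4))
  (F : Frame D n s x f a b d R) (F' : Frame D' n s x' f' a' b' d' R')

include Q Q' hn F F'

/-- The graph of the isomorphism of the groups generated by two frames. -/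
theorem graph_props :
    (∀ k ∈ Subgroup.closure (T D x f), ∃ k', (k, k') ∈
      Subgroup.closure ({(a, a'), (b, b'), (d, d')} : Set (G × G'))) ∧
    ∀ p ∈ Subgroup.closure ({(a, a'), (b, b'), (d, d')} : Set (G × G')),
      p.1 ∈ Subgroup.closure (T D x f) ∧ p.2 ∈ Subgroup.closure (T D' x' f') ∧
      (p.1 = 1 → p.2 = 1) ∧ (p.1 = b → p.2 = b') ∧ (p.1 ∈ T D x f → p.2 ∈ T D' x' f') := by
  set Δ := Subgroup.closure ({(a, a'), (b, b'), (d, d')} : Set (G × G')) with hΔ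
  have hK := closure_T_eq Q F
  have hK' := closure_T_eq Q' F'
  have hmap : Δ.map (MonoidHom.fst G G') = Subgroup.closure (T D x f) := by
    rw [hΔ, MonoidHom.map_closure, hK]
    congr 1
    simp [Set.image_insert_eq]
  have hmap' : Δ.map (MonoidHom.snd G G') = Subgroup.closure (T D' x' f') := by
    rw [hΔ, MonoidHom.map_closure, hK']
    congr 1
    simp [Set.image_insert_eq]
  have hcube : ∀ {u v : G} {u' v' : G'}, u ∈ T D x f → v ∈ T D x f → u' ∈ T D' x' f' →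
      v' ∈ T D' x' f' → ((u, u') * (v, v')) ^ 3 = 1 := by
    intro u v u' v' hu hv hu' hv'
    refine Prod.ext ?_ ?_
    · by_cases h : Commute u v
      · show (u * v) ^ 3 = 1
        rw [Q.T_eq_of_commute F.hx F.hf hu hv h, Q.sq hv.1.1, one_pow]
      · exact Q.cube hu.1.1 hv.1.1 h
    · by_cases h : Commute u' v'
      · show (u' * v') ^ 3 = 1
        rw [Q'.T_eq_of_commute F'.hx F'.hf hu' hv' h, Q'.sq hv'.1.1, one_pow]
      · exact Q'.cube hu'.1.1 hv'.1.1 h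
  have hbraid : ∀ {u v : G} {u' v' : G'}, u ∈ T D x f → v ∈ T D x f → u' ∈ T D' x' f' →
      v' ∈ T D' x' f' → (u, u') * (v, v') * (u, u') = (v, v') * (u, u') * (v, v') := by
    intro u v u' v' hu hv hu' hv'
    refine Prod.ext ?_ ?_
    · by_cases h : Commute u v
      · show u * v * u = v * u * v
        rw [Q.T_eq_of_commute F.hx F.hf hu hv h]
      · exact H44.tt_braid Q.cl.1 hu.1.1 hv.1.1 h
    · by_cases h : Commute u' v'
      · show u' * v' * u' = v' * u' * v'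
        rw [Q'.T_eq_of_commute F'.hx F'.hf hu' hv' h]
      · exact H44.tt_braid Q'.cl.1 hu'.1.1 hv'.1.1 h
  have hsq : ∀ {u : G} {u' : G'}, u ∈ T D x f → u' ∈ T D' x' f' →
      (u, u') * (u, u') = 1 := fun hu hu' => Prod.ext (Q.sq hu.1.1) (Q'.sq hu'.1.1)
  have hcard : Nat.card Δ ≤ 2 * n * (n / 3) := by
    rcases hn with rfl | ⟨rfl, -⟩
    · obtain rfl := F.hda rfl
      obtain rfl := F'.hda rfl
      rw [hΔ, show ({(d, d'), (b, b'), (d, d')} : Set (G × G')) = {(d, d'), (b, b')} from Set.ext fun _ => by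
        simp only [Set.mem_insert_iff, Set.mem_singleton_iff]; tauto]
      exact two_bound (hsq F.hd F'.hd) (hsq F.hb F'.hb) (hcube F.hd F.hb F'.hd F'.hb)
    · refine H92.TTThree.three_bound (hsq F.ha F'.ha) (hsq F.hb F'.hb) (hsq F.hd F'.hd)
        (hbraid F.ha F.hb F'.ha F'.hb) (hbraid F.ha F.hd F'.ha F'.hd)
        (hbraid F.hb F.hd F'.hb F'.hd) ?_
      have h := hcube F.ha (Q.T_cj F.hb F.hd) F'.ha (Q'.T_cj F'.hb F'.hd)
      simp only [cj, Q.inv' F.hb.1.1, Q'.inv' F'.hb.1.1] at h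
      exact h
  have hinj : Set.InjOn Prod.fst (Δ : Set (G × G')) := by
    refine Set.injOn_of_ncard_image_eq ?_ (Set.toFinite _)
    refine le_antisymm (Set.ncard_image_le (Set.toFinite _)) ?_
    rw [show Prod.fst '' (Δ : Set (G × G')) = (Δ.map (MonoidHom.fst G G') : Set G) from rfl, hmap,
      ← Nat.card_coe_set_eq, ← Nat.card_coe_set_eq, SetLike.coe_sort_coe, SetLike.coe_sort_coe,
      F.card]
    exact hcard
  have hbm : (b, b') ∈ Δ := Subgroup.subset_closure (Or.inr (Or.inl rfl))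
  have htot : ∀ k ∈ Subgroup.closure (T D x f), ∃ k', (k, k') ∈ Δ := by
    intro k hk
    rw [← hmap] at hk
    obtain ⟨p, hp, rfl⟩ := hk
    exact ⟨p.2, hp⟩
  refine ⟨htot, fun p hp => ⟨hmap ▸ ⟨p, hp, rfl⟩, hmap' ▸ ⟨p, hp, rfl⟩, fun h => ?_, fun h => ?_,
    fun h => ?_⟩⟩
  · exact congrArg Prod.snd (hinj hp Δ.one_mem h)
  · exact congrArg Prod.snd (hinj hp hbm h)
  · obtain ⟨k, hk, hkb⟩ : ∃ k ∈ Subgroup.closure (T D x f), cj k b = p.1 := by
      refine ⟨b * p.1, mul_mem (Subgroup.subset_closure F.hb) (Subgroup.subset_closure h), ?_⟩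
      by_cases hc : Commute p.1 b
      · rw [Q.T_eq_of_commute F.hx F.hf h F.hb hc, Q.sq F.hb.1.1, cj_one]
      · rw [← cj_cj, Q.braid h.1.1 F.hb.1.1 hc, Q.cj_invol F.hb.1.1]
    obtain ⟨k', hk'⟩ := htot k hk
    have hm : cj (k, k') (b, b') ∈ Δ := mul_mem (mul_mem hk' hbm) (inv_mem hk')
    rw [← show cj (k, k') (b, b') = p from hinj hm hp hkb, cj_snd]
    exact Q'.cj_mem_T (hmap' ▸ ⟨(k, k'), hk', rfl⟩) F'.hb

variable {Δ : Subgroup (G × G')}
  (hΔ : Δ = Subgroup.closure ({(a, a'), (b, b'), (d, d')} : Set (G × G'))) {E : Set (G × G')}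
  (hE : ∀ r ∈ E, r.1 ∈ R ∧ r.2 ∈ R') (hEt : ∀ r ∈ R, ∃ r', (r, r') ∈ E)
  (hEi : ∀ p ∈ E, ∀ q ∈ E, p.1 = q.1 → p = q)

include hΔ hE hEt hEi

/-- The one-sided properties of the matching. -/
theorem matched_props :
    (∀ p ∈ matched (T D x f) Δ E, p.1 ∈ nb D x) ∧
    (∀ y ∈ nb D x, ∃ y', (y, y') ∈ matched (T D x f) Δ E) ∧
    (∀ p ∈ matched (T D x f) Δ E, ∀ q ∈ matched (T D x f) Δ E, p.1 = q.1 → p.2 = q.2) ∧
    (∀ p ∈ matched (T D x f) Δ E, p.1 ∈ T D x f → p ∈ Δ ∧ p.2 ∈ T D' x' f') ∧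
    (∀ p ∈ matched (T D x f) Δ E, ∀ q ∈ matched (T D x f) Δ E,
      Commute p.1 q.1 → Commute p.2 q.2) ∧
    (∀ p ∈ matched (T D x f) Δ E, p.2 ∈ nb D' x') := by
  obtain ⟨htot, hprop⟩ := graph_props Q Q' hn F F'
  rw [← hΔ] at htot hprop
  have hbm : (b, b') ∈ Δ := hΔ ▸ Subgroup.subset_closure (Or.inr (Or.inl rfl))
  have hR : ∀ {r : G × G'}, r ∈ E → r.1 ∈ B D x b \ {x, b} ∧ r.2 ∈ B D' x' b' \ {x', b'} :=
    fun hr => ⟨F.R_sub (hE _ hr).1, F'.R_sub (hE _ hr).2⟩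
  have hRn : ∀ {g r : G × G'}, g ∈ Δ → r ∈ E →
      cj g.1 r.1 ∈ nb D x ∧ cj g.1 r.1 ∉ T D x f ∧ cj g.2 r.2 ∈ nb D' x' := by
    intro g r hg hr
    obtain ⟨h1, h2⟩ := hR hr
    simp only [Set.mem_sdiff, Set.mem_insert_iff, Set.mem_singleton_iff, not_or] at h1 h2
    refine ⟨Q.cj_mem_nb (Q.commute_of_mem_closure_T (hprop g hg).1).1
      (Q.mem_nb_of_mem_B h1.1 h1.2.1), fun h => ?_, Q'.cj_mem_nb
      (Q'.commute_of_mem_closure_T (hprop g hg).2.1).1 (Q'.mem_nb_of_mem_B h2.1 h2.2.1)⟩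
    exact Q.not_mem_T F.hx F.hf F.hb h1.1 h1.2.2 ((Q.cj_mem_T_iff (hprop g hg).1).1 h)
  have htrace : ∀ p ∈ matched (T D x f) Δ E, ∃ t ∈ Δ, t.1 ∈ T D x f ∧ Commute p.1 t.1 ∧
      Commute p.2 t.2 := by
    rintro p (⟨hp, hT⟩ | ⟨g, hg, r, hr, rfl⟩)
    · exact ⟨p, hp, hT, Commute.refl _, Commute.refl _⟩
    · obtain ⟨h1, h2⟩ := hR hr
      refine ⟨cj g (b, b'), mul_mem (mul_mem hg hbm) (inv_mem hg),
        Q.cj_mem_T (hprop g hg).1 F.hb, commute_cj_iff.2 h1.1.2.2, commute_cj_iff.2 h2.1.2.2⟩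
  have hmem : ∀ p ∈ matched (T D x f) Δ E, p.1 ∈ nb D x := by
    rintro p (⟨-, hT⟩ | ⟨g, hg, r, hr, rfl⟩)
    exacts [hT.1, (hRn hg hr).1]
  have hmem' : ∀ p ∈ matched (T D x f) Δ E, p.2 ∈ nb D' x' := by
    rintro p (⟨hp, hT⟩ | ⟨g, hg, r, hr, rfl⟩)
    exacts [((hprop p hp).2.2.2.2 hT).1, (hRn hg hr).2.2]
  have hfun : ∀ p ∈ Δ, ∀ q ∈ Δ, p.1 = q.1 → p = q := fun p hp q hq h => by
    have h2 := (hprop _ (mul_mem (inv_mem hp) hq)).2.2.1 (by
      show p.1⁻¹ * q.1 = 1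
      rw [h, inv_mul_cancel])
    exact Prod.ext h (inv_mul_eq_one.1 (show p.2⁻¹ * q.2 = 1 from h2))
  refine ⟨hmem, ?_, ?_, ?_, ?_, hmem'⟩
  · intro y hy
    by_cases hT : y ∈ T D x f
    · obtain ⟨y', h⟩ := htot y (Subgroup.subset_closure hT)
      exact ⟨y', Or.inl ⟨h, hT⟩⟩
    · obtain ⟨k, hk, r, hr, rfl⟩ := F.surj y hy hT
      obtain ⟨k', hk'⟩ := htot k hk
      obtain ⟨r', hr'⟩ := hEt r hr
      exact ⟨cj k' r', Or.inr ⟨(k, k'), hk', (r, r'), hr', rfl⟩⟩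
  · rintro p (⟨hp, hT⟩ | ⟨g, hg, r, hr, rfl⟩) q (⟨hq, hT'⟩ | ⟨g', hg', r', hr', rfl⟩) h
    · exact congrArg Prod.snd (hfun p hp q hq h)
    · rw [cj_fst] at h
      exact absurd (h ▸ hT) (hRn hg' hr').2.1
    · rw [cj_fst] at h
      exact absurd (h ▸ hT') (hRn hg hr).2.1
    · have hm : g'⁻¹ * g ∈ Δ := mul_mem (inv_mem hg') hg
      have he : cj (g'⁻¹ * g).1 r.1 = r'.1 := by
        show cj (g'.1⁻¹ * g.1) r.1 = r'.1
        rw [cj_fst, cj_fst] at h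
        rw [← cj_cj, h, cj_inv_cj]
      obtain ⟨hrr, hk⟩ := F.stab _ (hprop _ hm).1 _ (hE r hr).1 _ (hE r' hr').1 he
      obtain rfl := hEi r hr r' hr' hrr
      have hk2 : cj (g'⁻¹ * g).2 r.2 = r.2 := by
        rcases hk with hk | hk
        · rw [(hprop _ hm).2.2.1 hk, cj_one]
        · rw [(hprop _ hm).2.2.2.1 hk]
          exact cj_eq_of_commute (hR hr).2.1.2.2.symm
      show cj g.2 r.2 = cj g'.2 r.2
      conv_rhs => rw [← hk2, show (g'⁻¹ * g).2 = g'.2⁻¹ * g.2 from rfl, cj_cj, mul_inv_cancel_left]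
  · rintro p (⟨hp, hT⟩ | ⟨g, hg, r, hr, rfl⟩) hpT
    · exact ⟨hp, (hprop p hp).2.2.2.2 hT⟩
    · exact absurd hpT (hRn hg hr).2.1
  · intro p hp q hq h
    obtain ⟨t, ht, htT, hpt, hpt'⟩ := htrace p hp
    obtain ⟨u, hu, huT, hqu, hqu'⟩ := htrace q hq
    have he : t.1 = u.1 := Q.T_unique F.hx F.hf (hmem q hq) htT huT
      (Q.comm_trans F.hx (hmem q hq) (hmem p hp) htT.1 h.symm hpt) hqu
    obtain rfl := hfun t ht u hu he
    exact Q'.comm_trans F'.hx (hmem' p hp) ((hprop t ht).2.2.2.2 htT).1 (hmem' q hq) hpt' hqu'.symm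

end graph

/-- Residues of the same parameters are linked. -/
theorem exists_link [Finite G] [Finite G'] {n s : ℕ} (Q : Quad D) (Q' : Quad D')
    (P : Param D n s) (P' : Param D' n s)
    (hc : (n = 3 ∧ s = 2) ∨ (n = 3 ∧ s = 4) ∨ (n = 9 ∧ s = 4)) {x f : G} {x' f' : G'}
    (hx : x ∈ D) (hf : f ∈ far D x) (hx' : x' ∈ D') (hf' : f' ∈ far D' x') :
    ∃ Θ, Link D D' n s x f x' f' Θ := by
  have hn : n = 3 ∨ (n = 9 ∧ s = 4) :=
    hc.elim (fun h => Or.inl h.1) fun h => h.elim (fun h => Or.inl h.1) Or.inr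
  obtain ⟨a, b, d, R, F⟩ := Q.exists_frame P hx hf hn
  obtain ⟨a', b', d', R', F'⟩ := Q'.exists_frame P' hx' hf' hn
  obtain ⟨e⟩ : Nonempty (R ≃ R') := Finite.card_eq.1 (by
    rw [Nat.card_coe_set_eq, Nat.card_coe_set_eq, F.R_card, F'.R_card])
  set Δ := Subgroup.closure ({(a, a'), (b, b'), (d, d')} : Set (G × G')) with hΔ
  set Δ' := Subgroup.closure ({(a', a), (b', b), (d', d)} : Set (G' × G)) with hΔ'
  set E : Set (G × G') := Set.range fun r : R => ((r : G), ((e r : R') : G')) with hE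
  set E' : Set (G' × G) := Set.range fun r : R' => ((r : G'), ((e.symm r : R) : G)) with hE'
  have hE1 : ∀ r ∈ E, r.1 ∈ R ∧ r.2 ∈ R' := by
    rintro _ ⟨r, rfl⟩; exact ⟨r.2, (e r).2⟩
  have hE1' : ∀ r ∈ E', r.1 ∈ R' ∧ r.2 ∈ R := by
    rintro _ ⟨r, rfl⟩; exact ⟨r.2, (e.symm r).2⟩
  have hEt : ∀ r ∈ R, ∃ r', (r, r') ∈ E := fun r hr => ⟨_, ⟨r, hr⟩, rfl⟩
  have hEt' : ∀ r ∈ R', ∃ r', (r, r') ∈ E' := fun r hr => ⟨_, ⟨r, hr⟩, rfl⟩
  have hEi : ∀ p ∈ E, ∀ q ∈ E, p.1 = q.1 → p = q := by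
    rintro _ ⟨r, rfl⟩ _ ⟨r', rfl⟩ h; obtain rfl := Subtype.ext h; rfl
  have hEi' : ∀ p ∈ E', ∀ q ∈ E', p.1 = q.1 → p = q := by
    rintro _ ⟨r, rfl⟩ _ ⟨r', rfl⟩ h; obtain rfl := Subtype.ext h; rfl
  obtain ⟨m1, t1, i1, T1, c1, m1'⟩ := matched_props Q Q' hn F F' hΔ hE1 hEt hEi
  obtain ⟨m2, t2, i2, T2, c2, m2'⟩ := matched_props Q' Q hn F' F hΔ' hE1' hEt' hEi'
  obtain ⟨-, hprop⟩ := graph_props Q Q' hn F F'
  obtain ⟨-, hprop'⟩ := graph_props Q' Q hn F' F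
  rw [← hΔ] at hprop
  rw [← hΔ'] at hprop'
  have hswap : ∀ {p : G × G'}, p ∈ Δ ↔ p.swap ∈ Δ' := fun {p} => by
    constructor
    · intro h
      refine Subgroup.closure_mono ?_ (swap_mem_closure h)
      rintro q (h | h | h) <;> rw [← q.swap_swap, h] <;> simp
    · intro h
      have h2 := Subgroup.closure_mono (k := ({(a, a'), (b, b'), (d, d')} : Set (G × G'))) ?_
        (swap_mem_closure h)
      · rwa [Prod.swap_swap] at h2
      rintro q (h | h | h) <;> rw [← q.swap_swap, h] <;> simp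
  have hmem : ∀ {p : G × G'}, p ∈ matched (T D x f) Δ E →
      p.swap ∈ matched (T D' x' f') Δ' E' := by
    rintro p (⟨hp, hT⟩ | ⟨g, hg, _, ⟨r, rfl⟩, rfl⟩)
    · exact Or.inl ⟨hswap.1 hp, (hprop p hp).2.2.2.2 hT⟩
    · exact Or.inr ⟨g.swap, hswap.1 hg, _, ⟨e r, rfl⟩, by simp only [Equiv.symm_apply_apply]; rfl⟩
  have hmem' : ∀ {p : G' × G}, p ∈ matched (T D' x' f') Δ' E' →
      p.swap ∈ matched (T D x f) Δ E := by
    rintro p (⟨hp, hT⟩ | ⟨g, hg, _, ⟨r, rfl⟩, rfl⟩)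
    · exact Or.inl ⟨hswap.2 (by rwa [Prod.swap_swap]), (hprop' p hp).2.2.2.2 hT⟩
    · exact Or.inr ⟨g.swap, hswap.2 (by rwa [Prod.swap_swap]), _, ⟨e.symm r, rfl⟩,
        by simp only [Equiv.apply_symm_apply]; rfl⟩
  refine ⟨matched (T D x f) Δ E,
    { quad := Q, quad' := Q', par := P, par' := P', cases := hc, frame := ⟨a, b, d, R, F⟩
      frame' := ⟨a', b', d', R', F'⟩, mem := m1, mem' := m1', total := t1, inj := i1
      total' := fun y hy => let ⟨z, hz⟩ := t2 y hy; ⟨z, hmem' hz⟩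
      inj' := fun p hp q hq h => i2 _ (hmem hp) _ (hmem hq) h
      mapT := fun p hp => ⟨fun h => (T1 p hp h).2, fun h => (T2 _ (hmem hp) h).2⟩
      comm := fun p hp q hq => ⟨c1 p hp q hq, c2 _ (hmem hp) _ (hmem hq)⟩
      equiv := ?_, graph := ?_ }⟩
  · intro p hp hpT q hq
    have hpΔ := (T1 p hp hpT).1
    rcases hq with ⟨hq, hqT⟩ | ⟨g, hg, r, hr, rfl⟩
    · exact Or.inl ⟨mul_mem (mul_mem hpΔ hq) (inv_mem hpΔ), Q.T_cj hpT hqT⟩
    · exact Or.inr ⟨p * g, mul_mem hpΔ hg, r, hr, by rw [← cj_cj]⟩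
  · intro k hk
    have hkΔ : k ∈ Δ := (Subgroup.closure_le Δ).2 (fun p hp => (T1 p hp.1 hp.2).1) hk
    exact ⟨(hprop k hkΔ).2.2.1, (hprop' k.swap (hswap.1 hkΔ)).2.2.1⟩

end Cfsg.Agent.H80.TTQuad
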