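import Cfsg.Agent.H80.TTQuad.Count
import Cfsg.Agent.H92.TTThree

/-!
The group generated by the members commuting with two noncommuting members, its action on the
points collinear with one of them, and the common perpendicular of those members.
-/

set_option autoImplicit false
set_option linter.unusedSectionVars false

namespace Cfsg.Agent.H80.TTQuad

open Cfsg
open H76.LocallyS3 (nb cj cj_cj cj_injective commute_cj_iff)

universe u

variable {G : Type u} [Group G] {D : Set G}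

/-- A frame at a far pair: generators of the members commuting with both, and representatives of
the orbits on the other members commuting with `x`. -/
structure Frame (D : Set G) (n s : ℕ) (x f a b d : G) (R : Set G) : Prop where
  hx : x ∈ D
  hf : f ∈ far D x
  ha : a ∈ T D x f
  hb : b ∈ T D x f
  hd : d ∈ T D x f
  hab : a ≠ b
  hda : n = 3 → d = a
  gen : ∀ W ⊆ T D x f, (∀ u ∈ W, ∀ v ∈ W, cj u v ∈ W) → a ∈ W → b ∈ W → d ∈ W → W = T D x f
  card : Nat.card ↥(Subgroup.closure (T D x f)) = 2 * n * (n / 3)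
  R_sub : R ⊆ B D x b \ {x, b}
  R_card : R.ncard = if n = 3 then s - 1 else 1
  surj : ∀ y ∈ nb D x, y ∉ T D x f → ∃ k ∈ Subgroup.closure (T D x f), ∃ r ∈ R, cj k r = y
  stab : ∀ k ∈ Subgroup.closure (T D x f), ∀ r ∈ R, ∀ r' ∈ R, cj k r = r' →
    r = r' ∧ (k = 1 ∨ k = b)

theorem two_bound {a b : G} [Finite G] (ha : a * a = 1) (hb : b * b = 1) (h : (a * b) ^ 3 = 1) :
    Nat.card ↥(Subgroup.closure ({a, b} : Set G)) ≤ 6 := by
  have ai : a⁻¹ = a := inv_eq_of_mul_eq_one_right ha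
  have bi : b⁻¹ = b := inv_eq_of_mul_eq_one_right hb
  have hle : Subgroup.closure ({a, b} : Set G) ≤ Subgroup.zpowers a ⊔ Subgroup.zpowers (a * b) := by
    rw [Subgroup.closure_le]
    rintro z (rfl | rfl)
    · exact Subgroup.mem_sup_left (Subgroup.mem_zpowers _)
    · have h1 := Subgroup.mul_mem_sup (Subgroup.mem_zpowers a) (Subgroup.mem_zpowers (a * z))
      rwa [← mul_assoc a a z, ha, one_mul] at h1
  refine (Subgroup.card_le_of_le hle).trans ((H92.TTThree.card_sup_le _ _ ?_).trans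
    (Nat.mul_le_mul (H92.TTThree.card_zpowers_le (n := 2) (by norm_num) (by rw [pow_two, ha]))
      (H92.TTThree.card_zpowers_le (n := 3) (by norm_num) h)))
  rw [Subgroup.zpowers_le, Subgroup.zpowers_eq_closure]
  refine H92.TTThree.mem_normalizer_closure ha ?_
  rintro z rfl
  rw [show a * (a * b) * a = (a * b)⁻¹ by rw [mul_inv_rev, ai, bi, ← mul_assoc a a b, ha, one_mul]]
  exact inv_mem (Subgroup.subset_closure rfl)

/-- The third points of two crossed pairs agree if the straight ones do. -/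
theorem square {p p' q q' : G} (hp : p * p = 1) (hp' : p' * p' = 1) (h : Commute p p')
    (he : cj p q = cj p' q') : cj p q' = cj p' q := by
  have h1 : q' = cj p' (cj p q) := by rw [he, cj_mul_self hp']
  have h2 : q = cj p (cj p q) := (cj_mul_self hp q).symm
  conv_lhs => rw [h1, cj_cj, h.eq, ← cj_cj]
  rw [← h2]

namespace Quad

variable (Q : Quad D)
include Q

theorem commute_of_mem_closure_T {x f k : G} (hk : k ∈ Subgroup.closure (T D x f)) :
    Commute k x ∧ Commute k f :=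
  ⟨commute_of_mem_closure_nb (Subgroup.closure_mono Set.inter_subset_left hk),
    commute_of_mem_closure_nb (Subgroup.closure_mono Set.inter_subset_right hk)⟩

theorem cj_mem_T {x f k t : G} (hk : k ∈ Subgroup.closure (T D x f)) (ht : t ∈ T D x f) :
    cj k t ∈ T D x f :=
  ⟨Q.cj_mem_nb (Q.commute_of_mem_closure_T hk).1 ht.1,
    Q.cj_mem_nb (Q.commute_of_mem_closure_T hk).2 ht.2⟩

theorem cj_mem_T_iff {x f k t : G} (hk : k ∈ Subgroup.closure (T D x f)) :
    cj k t ∈ T D x f ↔ t ∈ T D x f := by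
  refine ⟨fun h => ?_, Q.cj_mem_T hk⟩
  have := Q.cj_mem_T (inv_mem hk) h
  rwa [cj_inv_cj] at this

variable [Finite G]

theorem not_mem_T {x f b y : G} (hx : x ∈ D) (hf : f ∈ far D x) (hb : b ∈ T D x f)
    (hy : y ∈ B D x b) (hyb : y ≠ b) : y ∉ T D x f :=
  fun h => hyb (Q.T_eq_of_commute hx hf h hb hy.2.2)

theorem rel {a d y : G} (ha : a ∈ D) (hd : d ∈ D) (hy : y ∈ D) (h1 : ¬ Commute a y)
    (h2 : ¬ Commute d y) (h3 : ¬ Commute (cj a d) y) :
    cj (cj a y) (cj d y) = cj (cj a d) y := by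
  rw [Q.braid ha hy h1, Q.braid hd hy h2, Q.braid (Q.mem_cj a hd) hy h3]
  simp only [cj, Q.inv' hy, Q.inv' ha]
  rw [show (y * a * y) * (y * d * y) * (y * a * y)⁻¹ = y * (a * (y * y) * d * a⁻¹) * y⁻¹ by group,
    Q.sq hy, Q.inv' hy, Q.inv' ha, mul_one]

variable {n s : ℕ} (P : Param D n s)
include P

/-- The members commuting with all of `T x f`. -/
theorem common_perp {x f z : G} (hx : x ∈ D) (hf : f ∈ far D x) (hn : n = 3 ∨ (n = 9 ∧ s = 4))
    (hz : z ∈ D) (hzT : ∀ t ∈ T D x f, Commute z t) : z = x ∨ z = f ∨ z = cj x f := by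
  classical
  by_contra hne
  push Not at hne
  obtain ⟨hzx, hzf, hzh⟩ := hne
  have hTn := P.perp x hx f hf
  obtain ⟨t₁, ht₁, t₂, ht₂, h12⟩ := (Set.one_lt_ncard (Set.toFinite _)).1
    (show 1 < (T D x f).ncard by have := Q.two_le_n P hx; omega)
  have hnc : ¬ Commute t₁ t₂ := fun h => h12 (Q.T_eq_of_commute hx hf ht₁ ht₂ h)
  have hfar₁ : t₂ ∈ far D t₁ := ⟨ht₂.1.1, hnc⟩
  set S : Set G := {w : G | w ∈ D ∧ ∀ t ∈ T D x f, Commute w t} with hS
  have hSsub : S ⊆ T D t₁ t₂ := fun w hw =>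
    mem_T_of_commute hnc hw.1 (hw.2 t₁ ht₁).symm (hw.2 t₂ ht₂).symm
  have hxS : x ∈ S := ⟨hx, fun t ht => ht.1.2.2⟩
  have hfS : f ∈ S := ⟨hf.1, fun t ht => ht.2.2.2⟩
  have hcl : ∀ u ∈ S, ∀ v ∈ S, cj u v ∈ S := fun u hu v hv => ⟨Q.mem_cj u hv.1, fun t ht => by
    have h := (commute_cj_iff (g := u)).2 (hv.2 t ht)
    rwa [cj_eq_of_commute (hu.2 t ht)] at h⟩
  have hncS : ∀ u ∈ S, ∀ v ∈ S, Commute u v → u = v := fun u hu v hv h =>
    Q.T_eq_of_commute ht₁.1.1 hfar₁ (hSsub hu) (hSsub hv) h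
  have hhS : cj x f ∈ S := hcl x hxS f hfS
  have hxh : x ≠ cj x f := fun e => (Q.not_commute_cj hx hf.1 hf.2).2 (e ▸ Commute.refl x)
  have hfh : f ≠ cj x f := fun e => (Q.not_commute_cj hx hf.1 hf.2).1 (e ▸ Commute.refl f)
  have h4 : 4 ≤ S.ncard := by
    have hsub : ({z, x, f, cj x f} : Set G) ⊆ S := by
      rintro w (rfl | rfl | rfl | rfl)
      exacts [⟨hz, hzT⟩, hxS, hfS, hhS]
    refine le_trans ?_ (Set.ncard_le_ncard hsub (Set.toFinite _))
    rw [Set.ncard_insert_of_notMem (by simp [hzx, hzf, hzh]) (Set.toFinite _),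
      Set.ncard_eq_three.2 ⟨x, f, cj x f, ne_of_not_commute hf.2, hxh, hfh, rfl⟩]
  have hle : S.ncard ≤ n := P.perp t₁ ht₁.1.1 t₂ hfar₁ ▸ Set.ncard_le_ncard hSsub (Set.toFinite _)
  obtain ⟨rfl, rfl⟩ : n = 9 ∧ s = 4 := hn.resolve_left (by omega)
  obtain ⟨j, hj⟩ := Q.three_pow_of_closed (fun w hw => hw.1) hcl hncS ⟨x, hxS⟩
  have h9 : S.ncard = 9 := by
    rcases j with _ | _ | _ | j
    · rw [hj] at h4; norm_num at h4
    · rw [hj] at h4; norm_num at h4
    · rw [hj]; norm_num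
    · rw [hj, pow_succ, pow_succ, pow_succ] at hle
      have := Nat.one_le_pow j 3 (by norm_num)
      omega
  -- every far pair in `T x f` has the same perpendicular, so `D` is too small
  have heq : ∀ t ∈ T D x f, ∀ t' ∈ T D x f, t ≠ t' → ∀ w ∈ D, Commute t w → Commute t' w →
      w ∈ S := by
    intro t ht t' ht' htt w hw h h'
    have hn' : ¬ Commute t t' := fun h => htt (Q.T_eq_of_commute hx hf ht ht' h)
    have hsub : S ⊆ T D t t' := fun v hv =>
      mem_T_of_commute hn' hv.1 (hv.2 t ht).symm (hv.2 t' ht').symm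
    rw [Set.eq_of_subset_of_ncard_le hsub (by rw [P.perp t ht.1.1 t' ⟨ht'.1.1, hn'⟩, h9])
      (Set.toFinite _)]
    exact mem_T_of_commute hn' hw h h'
  have hU : ((Set.toFinite (T D x f)).toFinset.biUnion
      fun t => (Set.toFinite (nb D t \ S)).toFinset).card ≤ D.ncard := by
    rw [Set.ncard_eq_toFinset_card D]
    refine Finset.card_le_card fun w hw => ?_
    rw [Finset.mem_biUnion] at hw
    obtain ⟨t, -, hw⟩ := hw
    rw [Set.Finite.mem_toFinset] at hw ⊢
    exact hw.1.1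
  rw [Finset.card_biUnion ?_, Finset.sum_const_nat (m := 27) fun t ht => ?_] at hU
  · obtain ⟨q, hq⟩ := Q.nb_nonempty hx
    rw [← Set.ncard_eq_toFinset_card, hTn, Q.ncard_D P hx hq] at hU
    omega
  · rw [Set.Finite.mem_toFinset] at ht
    have hsub : S ⊆ nb D t := fun w hw => ⟨hw.1, fun e => by
      subst e
      rcases eq_or_ne w t₁ with h | h
      · exact h12 (h ▸ (Q.T_eq_of_commute hx hf ht ht₂ (hw.2 t₂ ht₂)))
      · exact h (Q.T_eq_of_commute hx hf ht ht₁ (hw.2 t₁ ht₁)), (hw.2 t ht).symm⟩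
    rw [← Set.ncard_eq_toFinset_card, Set.ncard_sdiff hsub (Set.toFinite _), Q.ncard_nb P ht.1.1, h9]
  · intro t ht t' ht' htt
    rw [Finset.mem_coe, Set.Finite.mem_toFinset] at ht ht'
    rw [Function.onFun, Finset.disjoint_left]
    intro w hw hw'
    rw [Set.Finite.mem_toFinset] at hw hw'
    exact hw.2 (heq t ht t' ht' htt w hw.1.1 hw.1.2.2 hw'.1.2.2)

theorem exists_frame {x f : G} (hx : x ∈ D) (hf : f ∈ far D x) (hn : n = 3 ∨ (n = 9 ∧ s = 4)) :
    ∃ a b d R, Frame D n s x f a b d R := by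
  classical
  have hTn := P.perp x hx f hf
  set S := T D x f with hS
  set K := Subgroup.closure S with hK
  obtain ⟨a, ha, b, hb, hab⟩ := (Set.one_lt_ncard (Set.toFinite _)).1
    (show 1 < S.ncard by have := Q.two_le_n P hx; omega)
  have hnc : ∀ {t t' : G}, t ∈ S → t' ∈ S → t ≠ t' → ¬ Commute t t' :=
    fun {t t'} ht ht' h hc => h (Q.T_eq_of_commute hx hf ht ht' hc)
  have hcube : ∀ {t t' : G}, t ∈ S → t' ∈ S → (t * t') ^ 3 = 1 := fun {t t'} ht ht' => by
    by_cases h : t = t'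
    · rw [h, Q.sq ht'.1.1, one_pow]
    · exact Q.cube ht.1.1 ht'.1.1 (hnc ht ht' h)
  set c := cj a b with hc
  have hcS : c ∈ S := Q.T_cj ha hb
  have hca : c ≠ a := fun e => (Q.not_commute_cj ha.1.1 hb.1.1 (hnc ha hb hab)).2
    (by rw [← hc, e])
  have hcb : c ≠ b := fun e => (Q.not_commute_cj ha.1.1 hb.1.1 (hnc ha hb hab)).1
    (by rw [← hc, e])
  have hS3 : ({a, b, c} : Set G) ⊆ S := by
    rintro w (rfl | rfl | rfl)
    exacts [ha, hb, hcS]
  have hc3 : ({a, b, c} : Set G).ncard = 3 :=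
    Set.ncard_eq_three.2 ⟨a, b, c, hab, hca.symm, hcb.symm, rfl⟩
  -- transitivity on `S`
  have htr : ∀ {t}, t ∈ S → ∃ k ∈ K, cj k b = t := fun {t} ht => by
    refine ⟨b * t, mul_mem (Subgroup.subset_closure hb) (Subgroup.subset_closure ht), ?_⟩
    by_cases h : b = t
    · subst h; rw [Q.sq hb.1.1, cj_one]
    · rw [← cj_cj, Q.braid ht.1.1 hb.1.1 (hnc ht hb fun e => h e.symm), Q.cj_invol hb.1.1]
  have hone : (1 : G) ≠ b := fun e => hnc ha hb hab (e ▸ Commute.one_right a)
  have hbK : b ∈ K := Subgroup.subset_closure hb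
  have hstab2 : ∀ {z : G}, Commute b z →
      2 ≤ Nat.card ↥(K ⊓ Subgroup.centralizer ({z} : Set G)) := fun {z} h => by
    rw [← SetLike.coe_sort_coe, Nat.card_coe_set_eq]
    refine (Set.one_lt_ncard (Set.toFinite _)).2 ⟨1, one_mem _, b, ⟨hbK, ?_⟩, hone⟩
    exact Subgroup.mem_centralizer_singleton_iff.2 h.eq
  have hstab_eq : ∀ {z k : G}, Commute b z →
      Nat.card ↥(K ⊓ Subgroup.centralizer ({z} : Set G)) ≤ 2 → k ∈ K → cj k z = z →
        k = 1 ∨ k = b := fun {z k} h h2 hk hkz => by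
    have hsub : ({1, b} : Set G) ⊆ (K ⊓ Subgroup.centralizer ({z} : Set G) : Subgroup G) := by
      rintro w (rfl | rfl)
      exacts [one_mem _, ⟨hbK, Subgroup.mem_centralizer_singleton_iff.2 h.eq⟩]
    rw [← SetLike.coe_sort_coe, Nat.card_coe_set_eq] at h2
    have he := Set.eq_of_subset_of_ncard_le hsub (by rw [Set.ncard_pair hone]; exact h2)
      (Set.toFinite _)
    have hm : k ∈ ({1, b} : Set G) := he ▸
      (⟨hk, Subgroup.mem_centralizer_singleton_iff.2 (commute_of_cj_eq hkz).eq⟩ :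
        k ∈ K ⊓ Subgroup.centralizer ({z} : Set G))
    exact hm
  have hgenK : ∀ A ⊆ S, (∀ W ⊆ S, (∀ u ∈ W, ∀ v ∈ W, cj u v ∈ W) → A ⊆ W → W = S) →
      K ≤ Subgroup.closure A := by
    intro A hA hgen
    refine (Subgroup.closure_le _).2 ?_
    have h := hgen (S ∩ Subgroup.closure A) Set.inter_subset_left
      (fun u hu v hv => ⟨Q.T_cj hu.1 hv.1, mul_mem (mul_mem hu.2 hv.2) (inv_mem hu.2)⟩)
      (fun w hw => ⟨hA hw, Subgroup.subset_closure hw⟩)
    exact h ▸ Set.inter_subset_right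
  -- splitting a nonzero point
  have hsplit : ∀ y ∈ nb D x, y ∉ S → ∃ k ∈ K, cj k⁻¹ y ∈ B D x b \ {x, b} := by
    intro y hy hyS
    obtain ⟨t, ht, hyt⟩ := Q.exists_T hx hf hy
    obtain ⟨k, hk, hkb⟩ := htr ht
    refine ⟨k, hk, ?_⟩
    have hm := Q.cj_mem_nb (Q.commute_of_mem_closure_T hk).1.inv_left hy
    have h1 := (commute_cj_iff (g := k⁻¹)).2 hyt
    rw [← hkb, cj_inv_cj] at h1
    refine ⟨⟨hm.1, hm.2.2.symm, h1⟩, ?_⟩
    simp only [Set.mem_insert_iff, Set.mem_singleton_iff, not_or]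
    refine ⟨hm.2.1, fun e => hyS ?_⟩
    rw [← cj_cj_inv k y, e]
    exact Q.cj_mem_T hk hb
  rcases hn with rfl | ⟨rfl, rfl⟩
  · -- three points
    have hgen : ∀ W ⊆ S, (∀ u ∈ W, ∀ v ∈ W, cj u v ∈ W) → ({a, b} : Set G) ⊆ W → W = S := by
      intro W hW hcl hA
      have h3 : ({a, b, c} : Set G) ⊆ W := by
        rintro w (rfl | rfl | rfl)
        exacts [hA (Or.inl rfl), hA (Or.inr rfl), hcl a (hA (Or.inl rfl)) b (hA (Or.inr rfl))]
      exact Set.eq_of_subset_of_ncard_le hW (by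
        rw [hTn, ← hc3]; exact Set.ncard_le_ncard h3 (Set.toFinite _)) (Set.toFinite _)
    have hK6 : Nat.card K ≤ 6 :=
      (Subgroup.card_le_of_le (hgenK {a, b} (fun w hw => by
        rcases hw with rfl | rfl
        exacts [ha, hb]) hgen)).trans (two_bound (Q.sq ha.1.1) (Q.sq hb.1.1) (hcube ha hb))
    have horb : cjOrb K b = S := Set.Subset.antisymm
      (by rintro _ ⟨k, hk, rfl⟩; exact Q.cj_mem_T hk hb) (fun t ht => htr ht)
    have hmul := card_eq_ncard_mul K b
    rw [horb, hTn] at hmul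
    have h2 := hstab2 (Commute.refl b)
    refine ⟨a, b, a, B D x b \ {x, b}, ⟨hx, hf, ha, hb, ha, hab, fun _ => rfl, ?_, ?_,
      Set.Subset.rfl, ?_, ?_, ?_⟩⟩
    · exact fun W hW hcl h1 h2 _ => hgen W hW hcl (by rintro w (rfl | rfl) <;> assumption)
    · rw [← hK]; omega
    · rw [if_pos rfl, Set.ncard_sdiff (by
          rintro w (rfl | rfl)
          exacts [Q.left_mem_B hx hb.1, Q.right_mem_B hb.1]) (Set.toFinite _),
        Set.ncard_pair hb.1.2.1.symm, P.line x hx b hb.1]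
      omega
    · intro y hy hyS
      obtain ⟨k, hk, hm⟩ := hsplit y hy hyS
      exact ⟨k, hk, _, hm, cj_cj_inv k y⟩
    · intro k hk r hr r' hr' he
      simp only [Set.mem_sdiff, Set.mem_insert_iff, Set.mem_singleton_iff, not_or] at hr hr'
      have hkb : cj k b = b := by
        have h1 := (commute_cj_iff (g := k)).2 hr.1.2.2
        rw [he] at h1
        exact Q.T_unique hx hf (Q.mem_nb_of_mem_B hr'.1 hr'.2.1) (Q.cj_mem_T hk hb) hb h1
          hr'.1.2.2
      have hkk := hstab_eq (Commute.refl b) (by omega) hk hkb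
      refine ⟨?_, hkk⟩
      rcases hkk with rfl | rfl
      · rwa [cj_one] at he
      · rwa [cj_eq_of_commute hr.1.2.2.symm] at he
  · -- nine points
    obtain ⟨d, hd, hdn⟩ : ∃ d ∈ S, d ∉ ({a, b, c} : Set G) := by
      by_contra hall
      push Not at hall
      have := Set.ncard_le_ncard hall (Set.toFinite _)
      omega
    simp only [Set.mem_insert_iff, Set.mem_singleton_iff, not_or] at hdn
    have hgen : ∀ W ⊆ S, (∀ u ∈ W, ∀ v ∈ W, cj u v ∈ W) → ({a, b, d} : Set G) ⊆ W → W = S := by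
      intro W hW hcl hA
      obtain ⟨j, hj⟩ := Q.three_pow_of_closed (fun w hw => (hW hw).1.1) hcl
        (fun u hu v hv h => Q.T_eq_of_commute hx hf (hW hu) (hW hv) h) ⟨a, hA (Or.inl rfl)⟩
      have hsub : ({d, a, b, c} : Set G) ⊆ W := by
        rintro w (rfl | rfl | rfl | rfl)
        exacts [hA (Or.inr (Or.inr rfl)), hA (Or.inl rfl), hA (Or.inr (Or.inl rfl)),
          hcl a (hA (Or.inl rfl)) b (hA (Or.inr (Or.inl rfl)))]
      have h4 := Set.ncard_le_ncard hsub (Set.toFinite _)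
      rw [Set.ncard_insert_of_notMem (by simp [hdn.1, hdn.2.1, hdn.2.2]) (Set.toFinite _), hc3, hj]
        at h4
      refine Set.eq_of_subset_of_ncard_le hW ?_ (Set.toFinite _)
      rw [hTn, hj]
      rcases j with _ | _ | j
      · norm_num at h4
      · norm_num at h4
      · rw [pow_succ, pow_succ]; have := Nat.one_le_pow j 3 (by norm_num); omega
    have hK54 : Nat.card K ≤ 54 := by
      refine (Subgroup.card_le_of_le (hgenK {a, b, d} (fun w hw => by
        rcases hw with rfl | rfl | rfl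
        exacts [ha, hb, hd]) hgen)).trans ?_
      have hbr : ∀ {u v : G}, u ∈ S → v ∈ S → u ≠ v → u * v * u = v * u * v := fun {u v} hu hv h =>
        H44.tt_braid Q.cl.1 hu.1.1 hv.1.1 (hnc hu hv h)
      refine H92.TTThree.three_bound (Q.sq ha.1.1) (Q.sq hb.1.1) (Q.sq hd.1.1) (hbr ha hb hab)
        (hbr ha hd fun e => hdn.1 e.symm) (hbr hb hd fun e => hdn.2.1 e.symm) ?_
      have := hcube ha (Q.T_cj hb hd)
      rwa [cj, Q.inv' hb.1.1] at this
    obtain ⟨y, hy, hyx, hyb⟩ := Q.big x hx b hb.1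
    have hyn := Q.mem_nb_of_mem_B hy hyx
    set L := B D x b \ {x, b} with hL
    have hyL : y ∈ L := ⟨hy, by simp [hyx, hyb]⟩
    have hL3 : L.ncard = 3 := by
      rw [hL, Set.ncard_sdiff (by
          rintro w (rfl | rfl)
          exacts [Q.left_mem_B hx hb.1, Q.right_mem_B hb.1]) (Set.toFinite _),
        Set.ncard_pair hb.1.2.1.symm, P.line x hx b hb.1]
    -- an element fixing `b` and no nonzero point of its line
    set a' := cj a b with ha'def
    set d' := cj d b with hd'def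
    have hd'S : d' ∈ S := Q.T_cj hd hb
    have had' : ¬ Commute a' d' := by
      refine hnc hcS hd'S fun e => hdn.1 ?_
      rw [ha'def, hd'def, Q.braid ha.1.1 hb.1.1 (hnc ha hb hab),
        Q.braid hd.1.1 hb.1.1 (hnc hd hb hdn.2.1)] at e
      exact (cj_injective b e).symm
    set g := (d' * a)⁻¹ * (a' * d) with hg
    have hgK : g ∈ K := mul_mem (inv_mem (mul_mem (Subgroup.subset_closure hd'S)
      (Subgroup.subset_closure ha))) (mul_mem (Subgroup.subset_closure hcS) (Subgroup.subset_closure hd))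
    have hgb : cj g b = b := by
      rw [hg, ← cj_cj, ← cj_cj a' d, ← hd'def, Q.braid hcS.1.1 hd'S.1.1 had',
        show cj d' a' = cj (d' * a) b by rw [← cj_cj d' a, ← ha'def], cj_inv_cj]
    have hgfix : ∀ z ∈ L, cj g z ≠ z := by
      intro z hz he
      simp only [hL, Set.mem_sdiff, Set.mem_insert_iff, Set.mem_singleton_iff, not_or] at hz
      have hzn := Q.mem_nb_of_mem_B hz.1 hz.2.1
      have hzT := Q.not_mem_T hx hf hb hz.1 hz.2.2
      have hnz : ∀ {w : G}, w ∈ S → w ≠ b → ¬ Commute w z := fun {w} hw hwb h =>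
        hnc hw hb hwb (Q.comm_trans hx hw.1 hzn hb.1 h hz.1.2.2)
      set g' := cj a d with hg'
      have hg'S : g' ∈ S := Q.T_cj ha hd
      have hg'b : g' ≠ b := fun e => hdn.2.2 (by
        rw [hc, ha'def, ← e, hg', Q.cj_invol ha.1.1])
      set α := cj a z with hα
      set δ := cj d z with hδ
      have hαn : α ∈ nb D x := Q.cj_mem_nb ha.1.2.2.symm hzn
      have hαa : Commute α a' := commute_cj_iff.2 hz.1.2.2
      have hαd : ¬ Commute α d' := fun h => had'
        (Q.comm_trans hx hcS.1 hαn hd'S.1 hαa.symm h)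
      have h1 : cj (a' * d) z = cj (d' * a) z := by
        conv_rhs => rw [← he, hg, ← cj_cj (d' * a)⁻¹, cj_cj_inv]
      rw [← cj_cj a' d, ← cj_cj d' a, ← hα, ← hδ, Q.braid hd'S.1.1 hαn.1 fun q => hαd q.symm] at h1
      have h2 := square (Q.sq hαn.1) (Q.sq hcS.1.1) hαa h1.symm
      rw [hα, hδ, Q.rel ha.1.1 hd.1.1 hz.1.1 (hnz ha hab) (hnz hd hdn.2.1) (hnz hg'S hg'b)] at h2
      exact hzT ((Q.cj_mem_T_iff (Subgroup.subset_closure hg'S)).1 (h2 ▸ Q.T_cj hcS hd'S))
    have hgL : ∀ z ∈ L, cj g z ∈ L := by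
      rintro z ⟨hz, hzn⟩
      have h := Q.cj_B g x b hz
      rw [cj_eq_of_commute (Q.commute_of_mem_closure_T hgK).1, hgb] at h
      refine ⟨h, fun e => hzn ?_⟩
      simp only [Set.mem_insert_iff, Set.mem_singleton_iff] at e ⊢
      rcases e with e | e
      · exact Or.inl (cj_injective g (e.trans (cj_eq_of_commute (Q.commute_of_mem_closure_T hgK).1).symm))
      · exact Or.inr (cj_injective g (e.trans hgb.symm))
    have hL1 := hgL y hyL
    have hL2 := hgL _ hL1
    have hne : y ≠ cj g (cj g y) := by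
      intro he
      obtain ⟨w, hw, hwn⟩ : ∃ w ∈ L, w ∉ ({y, cj g y} : Set G) := by
        by_contra hall
        push Not at hall
        have := Set.ncard_le_ncard hall (Set.toFinite _)
        have h2 : ({y, cj g y} : Set G).ncard ≤ 2 := by
          rw [Set.ncard_pair (hgfix y hyL).symm]
        omega
      simp only [Set.mem_insert_iff, Set.mem_singleton_iff, not_or] at hwn
      have hall : ({y, cj g y, w} : Set G) = L := Set.eq_of_subset_of_ncard_le (by
          rintro v (rfl | rfl | rfl)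
          exacts [hyL, hL1, hw]) (by
          rw [hL3, Set.ncard_eq_three.2 ⟨y, cj g y, w, (hgfix y hyL).symm, fun e => hwn.1 e.symm,
            fun e => hwn.2 e.symm, rfl⟩]) (Set.toFinite _)
      have hgw := hgL w hw
      rw [← hall] at hgw
      rcases hgw with h | h | h
      · exact hwn.2 (cj_injective g (h.trans he))
      · exact hwn.1 (cj_injective g h)
      · exact hgfix w hw h
    have hLorb : L ⊆ cjOrb K y := by
      have hsub : ({y, cj g y, cj g (cj g y)} : Set G) ⊆ L := by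
        rintro v (rfl | rfl | rfl)
        exacts [hyL, hL1, hL2]
      have h := Set.eq_of_subset_of_ncard_le hsub (by
        rw [hL3, Set.ncard_eq_three.2 ⟨y, cj g y, cj g (cj g y), (hgfix y hyL).symm, hne,
          (hgfix _ hL1).symm, rfl⟩]) (Set.toFinite _)
      rw [← h]
      rintro v (rfl | rfl | rfl)
      exacts [⟨1, one_mem _, cj_one _⟩, ⟨g, hgK, rfl⟩, ⟨g * g, mul_mem hgK hgK, (cj_cj g g y).symm⟩]
    have horb : cjOrb K y = nb D x \ S := by
      refine Set.Subset.antisymm ?_ fun z hz => ?_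
      · rintro _ ⟨k, hk, rfl⟩
        exact ⟨Q.cj_mem_nb (Q.commute_of_mem_closure_T hk).1 hyn,
          fun h => Q.not_mem_T hx hf hb hy hyb ((Q.cj_mem_T_iff hk).1 h)⟩
      · obtain ⟨k, hk, hm⟩ := hsplit z hz.1 hz.2
        obtain ⟨k', hk', he⟩ := hLorb hm
        exact ⟨k * k', mul_mem hk hk', by rw [← cj_cj, he, cj_cj_inv]⟩
    have hmul := card_eq_ncard_mul K y
    rw [horb, Set.ncard_sdiff (show S ⊆ nb D x from fun w hw => hw.1) (Set.toFinite _),
      Q.ncard_nb P hx, hTn] at hmul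
    have h2 := hstab2 hy.2.2.symm
    refine ⟨a, b, d, {y}, ⟨hx, hf, ha, hb, hd, hab, fun h => by omega, ?_, ?_, ?_, ?_, ?_, ?_⟩⟩
    · exact fun W hW hcl h1 h2 h3 =>
        hgen W hW hcl (by rintro w (rfl | rfl | rfl) <;> assumption)
    · rw [← hK]; omega
    · exact Set.singleton_subset_iff.2 hyL
    · rw [if_neg (by norm_num), Set.ncard_singleton]
    · intro z hz hzS
      obtain ⟨k, hk, he⟩ : z ∈ cjOrb K y := by rw [horb]; exact ⟨hz, hzS⟩
      exact ⟨k, hk, y, rfl, he⟩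
    · rintro k hk r rfl r' rfl he
      exact ⟨rfl, hstab_eq hy.2.2.symm (by omega) hk he⟩

end Quad

end Cfsg.Agent.H80.TTQuad
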